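import Cfsg.Agent.H20.O8Cover.Roots

/-!
Frames of eight commuting reflections in the model, and the fourteen quadruples of the frame.
-/

set_option autoImplicit false
set_option maxRecDepth 100000

namespace H20.O8Cover

open H76.Exc Subgroup

/-- Index of a line of the frame. -/
def fIdx (i : Fin 8) : ℕ := frameIdx.getD i.val 0

/-- Signed permutations of the frame. -/
def frPerm : List (List ℕ × List ℕ) := [
  ([1, 0, 2, 3, 4, 5, 6, 7], [1, 1, 1, 1, 1, 1, 1, 1]), ([1, 0, 2, 3, 4, 5, 6, 7], [2, 2, 1, 1, 1, 1, 1, 1]),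
  ([0, 1, 3, 2, 4, 5, 6, 7], [1, 1, 1, 1, 1, 1, 1, 1]), ([0, 1, 3, 2, 4, 5, 6, 7], [1, 1, 2, 2, 1, 1, 1, 1]),
  ([0, 1, 2, 3, 5, 4, 6, 7], [1, 1, 1, 1, 1, 1, 1, 1]), ([0, 1, 2, 3, 5, 4, 6, 7], [1, 1, 1, 1, 2, 2, 1, 1]),
  ([0, 1, 2, 3, 4, 5, 7, 6], [1, 1, 1, 1, 1, 1, 1, 1]), ([0, 1, 2, 3, 4, 5, 7, 6], [1, 1, 1, 1, 1, 1, 2, 2])]

/-- The reflections of the frame are the tabulated ones. -/
def frOK : Bool :=
  (List.finRange 8).all fun i =>
    let q := frPerm.getD i.val ([], [])
    let A := H6.O8.mrows q.1 q.2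
    decide (fIdx i < 120) && (A == refRows (root (fIdx i))) &&
      (rmul A (H6.O8.rtr A) == rsc 1) && (rmul (H6.O8.rtr A) A == rsc 1) &&
      (List.finRange 8).all fun j => (i == j) || (adj (fIdx i) (fIdx j) && (fIdx i != fIdx j))

theorem frCert : frOK = true := by decide +kernel

theorem fIdx_lt (i : Fin 8) : fIdx i < 120 := by
  have h := frCert
  simp only [frOK, List.all_eq_true, List.mem_finRange, true_implies, Bool.and_eq_true,
    decide_eq_true_eq] at h
  exact (h i).1.1.1.1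

theorem fIdx_adj {i j : Fin 8} (hij : i ≠ j) : adj (fIdx i) (fIdx j) = true ∧ fIdx i ≠ fIdx j := by
  have h := frCert
  simp only [frOK, List.all_eq_true, List.mem_finRange, true_implies, Bool.and_eq_true,
    Bool.or_eq_true, beq_iff_eq, bne_iff_ne] at h
  exact ((h i).2 j).resolve_left hij

theorem fIdx_inj : Function.Injective fIdx := fun i j h => by
  by_contra hne
  exact (fIdx_adj hne).2 h

theorem fr_eq (i : Fin 8) : H6.O8.fr i = Rf (fIdx i) := by
  have h := frCert
  simp only [frOK, List.all_eq_true, List.mem_finRange, true_implies, Bool.and_eq_true,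
    beq_iff_eq] at h
  obtain ⟨⟨⟨⟨-, hA⟩, h1⟩, h2⟩, -⟩ := h i
  have e : H6.O8.fr i = H6.O8.mono (frPerm.getD i.val ([], [])).1 (frPerm.getD i.val ([], [])).2 := by
    fin_cases i <;> rfl
  refine Units.ext ?_
  rw [e, H6.O8.mono, H6.O8.glOf, dif_pos ⟨h1, h2⟩, Rf_val (fIdx_lt i), ← hA]

theorem fIdx_zero : fIdx 0 = base := rfl

theorem rR_eq : H6.O8.rR = Rf base := by rw [H6.O8.rR, fr_eq, fIdx_zero]

theorem base_lt : base < 120 := fIdx_zero ▸ fIdx_lt 0

theorem word_one {k : ℕ} (hk : k < 120) : ∃ m ∈ M, m * Rf k * m⁻¹ = H6.O8.rR := by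
  have h := baseCert
  simp only [baseOK, Bool.and_eq_true, decide_eq_true_eq, List.all_eq_true, List.mem_range,
    beq_iff_eq] at h
  obtain ⟨⟨hw, hr⟩, -⟩ := h.2 k hk
  obtain ⟨hm, -, e⟩ := word_props _ hw k hk
  exact ⟨_, hm, by rw [e, hr, rR_eq]⟩

theorem exists_line {y : H6.O8.GG} (h : H6.O8.MConj y H6.O8.rR) : ∃ l < 120, y = Rf l := by
  obtain ⟨m, hm, e⟩ := h
  rw [MM_eq] at hm
  obtain ⟨l, hl, e', -⟩ := exists_conj_Rf (inv_mem hm) base_lt
  refine ⟨l, hl, ?_⟩
  rw [← e', ← rR_eq, ← e]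
  group

theorem mconj_Rf {k : ℕ} (hk : k < 120) : H6.O8.MConj (Rf k) H6.O8.rR := by
  obtain ⟨m, hm, e⟩ := word_one hk
  exact ⟨m, MM_eq ▸ hm, e⟩

theorem fr_conj' (i : Fin 8) : H6.O8.MConj (H6.O8.fr i) H6.O8.rR := by
  rw [fr_eq]; exact mconj_Rf (fIdx_lt i)

theorem Rf_commute {k l : ℕ} (hk : k < 120) (hl : l < 120) (h : adj k l = true) :
    Rf k * Rf l = Rf l * Rf k := by
  have hd : dotProduct (rvv k) (rvv l) = 0 := (adj_iff hk hl).1 h
  refine Units.ext ?_
  rw [Units.val_mul, Units.val_mul, Rf_val hk, Rf_val hl, toM_refRows, toM_refRows, ← rvv, ← rvv,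
    mul_sub, sub_mul, sub_mul, mul_sub, sub_mul, sub_mul, Matrix.vecMulVec_mul_vecMulVec,
    Matrix.vecMulVec_mul_vecMulVec, hd, dotProduct_comm (rvv l) (rvv k), hd]
  simp only [one_mul, mul_one, zero_smul]
  ext i j
  simp only [Matrix.sub_apply, Matrix.vecMulVec_apply, Pi.zero_apply, mul_zero, zero_mul]
  ring

theorem fr_comm' (i j : Fin 8) : H6.O8.fr i * H6.O8.fr j = H6.O8.fr j * H6.O8.fr i := by
  by_cases h : i = j
  · rw [h]
  · rw [fr_eq, fr_eq, Rf_commute (fIdx_lt i) (fIdx_lt j) (fIdx_adj h).1]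

theorem fr_ne' (i j : Fin 8) (h : i ≠ j) :
    H6.O8.fr i ≠ H6.O8.fr j ∧ H6.O8.fr i ≠ H6.O8.zM * H6.O8.fr j := by
  rw [fr_eq, fr_eq]
  refine ⟨fun e => h (fIdx_inj ((Rf_inj_comm (fIdx_lt i) (fIdx_lt j)).1 e)), fun e => ?_⟩
  obtain ⟨k, hki, hkj⟩ : ∃ k, k ≠ i ∧ k ≠ j := by exact (by decide : ∀ i j : Fin 8, ∃ k, k ≠ i ∧ k ≠ j) i j
  have e' := congrArg (fun g : H6.O8.GG => (g : Matrix (Fin 8) (Fin 8) (ZMod 3)).mulVec (rvv (fIdx k))) e
  simp only [H6.O8.zM, Units.val_mul, Units.val_neg, Units.val_one, neg_mul, one_mul,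
    Matrix.neg_mulVec, Rf_mulVec (fIdx_lt i), Rf_mulVec (fIdx_lt j),
    (adj_iff (fIdx_lt i) (fIdx_lt k)).1 (fIdx_adj hki.symm).1,
    (adj_iff (fIdx_lt j) (fIdx_lt k)).1 (fIdx_adj hkj.symm).1, zero_smul, sub_zero] at e'
  have e2 := congrArg (dotProduct (rvv (fIdx k))) e'
  rw [dotProduct_neg, dot_self (fIdx_lt k)] at e2
  exact absurd e2 (by decide)

/-- Lines forming a set of pairwise orthogonal ones. -/
def extCliques (f : List ℕ → List (List ℕ)) : List ℕ → List (List ℕ)
  | [] => []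
  | c :: cs => (f (cs.filter (adj c))).map (c :: ·) ++ extCliques f cs

/-- All such sets of given size. -/
def cliques : ℕ → List ℕ → List (List ℕ)
  | 0 => fun _ => [[]]
  | k + 1 => extCliques (cliques k)

theorem mem_cliques : ∀ (k : ℕ) (cand : List ℕ) (S : Finset ℕ), (∀ x ∈ S, x ∈ cand) → S.card = k →
    (∀ x ∈ S, ∀ y ∈ S, x ≠ y → adj x y = true) → ∃ l ∈ cliques k cand, l.toFinset = S := by
  intro k
  induction k with
  | zero =>
    intro cand S _ hc _
    exact ⟨[], by simp [cliques], by simp [Finset.card_eq_zero.1 hc]⟩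
  | succ k ih =>
    intro cand
    induction cand with
    | nil =>
      intro S hS hc _
      obtain ⟨x, hx⟩ := Finset.card_pos.1 (by omega : 0 < S.card)
      exact absurd (hS x hx) (by simp)
    | cons c cs ihc =>
      intro S hS hc hadj
      by_cases hcS : c ∈ S
      · obtain ⟨l, hl, e⟩ := ih (cs.filter (adj c)) (S.erase c) (fun x hx => by
            rw [Finset.mem_erase] at hx
            exact List.mem_filter.2 ⟨(List.mem_cons.1 (hS x hx.2)).resolve_left hx.1,
              hadj c hcS x hx.2 hx.1.symm⟩)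
          (by rw [Finset.card_erase_of_mem hcS, hc]; rfl)
          (fun x hx y hy => hadj x (Finset.mem_of_mem_erase hx) y (Finset.mem_of_mem_erase hy))
        refine ⟨c :: l, ?_, by rw [List.toFinset_cons, e, Finset.insert_erase hcS]⟩
        exact List.mem_append_left _ (List.mem_map_of_mem hl)
      · obtain ⟨l, hl, e⟩ := ihc S (fun x hx =>
          (List.mem_cons.1 (hS x hx)).resolve_left fun e => hcS (e ▸ hx)) hc hadj
        exact ⟨l, List.mem_append_right _ hl, e⟩

/-- The second line of the frame. -/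
def second : ℕ := frameIdx.getD 1 0

/-- The certificate for frames: second lines, frames through two lines, and the stabiliser. -/
def frameOK : Bool :=
  ((List.range 120).all fun k => !adj base k ||
    ((wordTwo.getD k []).all (fun r => decide (r < 24)) && (runW (wordTwo.getD k []) base == base) &&
      (runW (wordTwo.getD k []) k == second))) &&
  ((cliques 6 ((List.range 120).filter fun k => adj base k && adj second k)).all fun l =>
    frameWords.any fun cw => (cw.1 == l) && cw.2.all (fun r => decide (r < 24)) &&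
      (base :: second :: l).all fun x => frameIdx.contains (runW cw.2 x)) &&
  ((List.finRange 8).all fun a =>
    (wordFrame.getD a.val []).all (fun r => decide (r < 24)) &&
      (runW (wordFrame.getD a.val []) base == fIdx a) &&
      frameIdx.all fun x => frameIdx.contains (runW (wordFrame.getD a.val []) x))

theorem frameCert : frameOK = true := by decide +kernel

theorem fIdx_surj {x : ℕ} (h : x ∈ frameIdx) : ∃ i : Fin 8, fIdx i = x := by
  obtain ⟨n, hn, rfl⟩ := List.getElem_of_mem h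
  refine ⟨⟨n, hn⟩, ?_⟩
  simp [fIdx, List.getD_eq_getElem?_getD, List.getElem?_eq_getElem hn]

theorem adj_self {k : ℕ} (hk : k < 120) : adj k k ≠ true := fun h => by
  have := (adj_iff hk hk).1 h
  rw [dot_self hk] at this
  exact absurd this (by decide)

/-- A family of eight distinct commuting lines moves along a word to another such family. -/
theorem move_family {w : List ℕ} (hw : ∀ r ∈ w, r < 24) {κ : Fin 8 → ℕ} (hκ : ∀ i, κ i < 120)
    (hinj : Function.Injective κ) (hadj : ∀ i j, i ≠ j → adj (κ i) (κ j) = true) :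
    (∀ i, runW w (κ i) < 120) ∧ Function.Injective (fun i => runW w (κ i)) ∧
      ∀ i j, i ≠ j → adj (runW w (κ i)) (runW w (κ j)) = true := by
  have hp := fun i => word_props w hw (κ i) (hκ i)
  have hinj' : Function.Injective (fun i => runW w (κ i)) := fun i j h => hinj (by
    refine (Rf_inj_comm (hκ i) (hκ j)).1 ?_
    have e : Rf (runW w (κ i)) = Rf (runW w (κ j)) := congrArg Rf h
    rw [← (hp i).2.2, ← (hp j).2.2] at e
    exact mul_left_cancel (mul_right_cancel e))
  refine ⟨fun i => (hp i).2.1, hinj', fun i j hij => ?_⟩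
  refine ((Rf_inj_comm (hp i).2.1 (hp j).2.1).2 ?_).resolve_left (fun e => hij (hinj' e))
  rw [← (hp i).2.2, ← (hp j).2.2, conj_mul, conj_mul, Rf_commute (hκ i) (hκ j) (hadj i j hij)]

theorem frame' (y : Fin 8 → H6.O8.GG) (hy : ∀ i, H6.O8.MConj (y i) H6.O8.rR)
    (hc : ∀ i j, y i * y j = y j * y i) (hne : ∀ i j, i ≠ j → y i ≠ y j) :
    ∃ m ∈ H6.O8.MM, ∃ σ : Equiv.Perm (Fin 8), ∀ i, m * y i * m⁻¹ = H6.O8.fr (σ i) := by
  choose κ hκ eκ using fun i => exists_line (hy i)
  have hinj : Function.Injective κ := fun i j h => by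
    by_contra hij; exact hne i j hij (by rw [eκ i, eκ j, h])
  have hadj : ∀ i j, i ≠ j → adj (κ i) (κ j) = true := fun i j hij =>
    ((Rf_inj_comm (hκ i) (hκ j)).2 (by rw [← eκ i, ← eκ j]; exact hc i j)).resolve_left
      (fun e => hij (hinj e))
  have hb := baseCert
  have hf := frameCert
  simp only [baseOK, Bool.and_eq_true, decide_eq_true_eq, List.all_eq_true, List.mem_range,
    beq_iff_eq] at hb
  simp only [frameOK, Bool.and_eq_true, List.all_eq_true, List.mem_range, List.any_eq_true,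
    decide_eq_true_eq, beq_iff_eq, Bool.or_eq_true, Bool.not_eq_true', List.contains_iff_mem] at hf
  obtain ⟨⟨hf2, hf3⟩, -⟩ := hf
  obtain ⟨⟨hw1, r1⟩, -⟩ := hb.2 _ (hκ 0)
  set w1 := wordOne.getD (κ 0) []
  obtain ⟨l1, i1, a1⟩ := move_family hw1 hκ hinj hadj
  have h01 : adj base (runW w1 (κ 1)) = true := by
    have := a1 0 1 (by decide); rwa [r1] at this
  obtain ⟨⟨hw2, r20⟩, r21⟩ := (hf2 _ (l1 1)).resolve_left (by simp [h01])
  set w2 := wordTwo.getD (runW w1 (κ 1)) []
  obtain ⟨l2, i2, a2⟩ := move_family hw2 l1 i1 a1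
  let κ2 : Fin 8 → ℕ := fun i => runW w2 (runW w1 (κ i))
  have k20 : κ2 0 = base := by show runW w2 (runW w1 (κ 0)) = base; rw [r1, r20]
  have k21 : κ2 1 = second := r21
  let S : Finset ℕ := ((Finset.univ.erase (0 : Fin 8)).erase 1).image κ2
  obtain ⟨l, hl, hlS⟩ := mem_cliques 6 ((List.range 120).filter fun k => adj base k && adj second k) S
    (fun x hx => by
      simp only [S, Finset.mem_image, Finset.mem_erase, Finset.mem_univ, and_true] at hx
      obtain ⟨i, ⟨h1, h0⟩, rfl⟩ := hx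
      refine List.mem_filter.2 ⟨List.mem_range.2 (l2 i), ?_⟩
      rw [Bool.and_eq_true, ← k20, ← k21]
      exact ⟨a2 0 i (Ne.symm h0), a2 1 i (Ne.symm h1)⟩)
    (by rw [Finset.card_image_of_injective _ i2]; decide)
    (fun x hx z hz hxz => by
      simp only [S, Finset.mem_image] at hx hz
      obtain ⟨i, -, rfl⟩ := hx
      obtain ⟨j, -, rfl⟩ := hz
      exact a2 i j fun e => hxz (by rw [e]))
  obtain ⟨cw, -, ⟨-, hw3⟩, hmem⟩ := hf3 l hl
  have hfr : ∀ i, ∃ j, fIdx j = runW cw.2 (κ2 i) := by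
    intro i
    refine fIdx_surj (hmem _ ?_)
    by_cases h0 : i = 0
    · subst h0; rw [k20]; exact List.mem_cons_self
    by_cases h1 : i = 1
    · subst h1; rw [k21]; exact List.mem_cons_of_mem _ List.mem_cons_self
    refine List.mem_cons_of_mem _ (List.mem_cons_of_mem _ (List.mem_toFinset.1 ?_))
    rw [hlS]
    exact Finset.mem_image_of_mem _ (by simp [h0, h1])
  choose σ hσ using hfr
  obtain ⟨-, i3, -⟩ := move_family hw3 l2 i2 a2
  have hσi : Function.Injective σ := fun i j h => i3 (by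
    show runW cw.2 (κ2 i) = runW cw.2 (κ2 j)
    rw [← hσ, ← hσ, h])
  refine ⟨(cw.2.map gen).prod * ((w2.map gen).prod * (w1.map gen).prod), ?_,
    Equiv.ofBijective σ (Finite.injective_iff_bijective.1 hσi), fun i => ?_⟩
  · rw [MM_eq]
    exact mul_mem (word_props _ hw3 _ base_lt).1
      (mul_mem (word_props _ hw2 _ base_lt).1 (word_props _ hw1 _ base_lt).1)
  · rw [Equiv.ofBijective_apply, fr_eq, hσ, ← (word_props _ hw3 _ (l2 i)).2.2,
      ← (word_props _ hw2 _ (l1 i)).2.2, ← (word_props _ hw1 _ (hκ i)).2.2, eκ i]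
    group

theorem frTrans' (a : Fin 8) : ∃ m ∈ H6.O8.MM, ∃ σ : Equiv.Perm (Fin 8),
    σ 0 = a ∧ ∀ i, m * H6.O8.fr i * m⁻¹ = H6.O8.fr (σ i) := by
  have hf := frameCert
  simp only [frameOK, Bool.and_eq_true, List.all_eq_true, List.mem_finRange, true_implies,
    decide_eq_true_eq, beq_iff_eq, List.contains_iff_mem] at hf
  obtain ⟨-, hf⟩ := hf
  obtain ⟨⟨hw, hr⟩, hmem⟩ := hf a
  have hmemf : ∀ i, fIdx i ∈ frameIdx := by
    intro i
    have hlen : i.val < frameIdx.length := i.isLt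
    rw [fIdx, List.getD_eq_getElem?_getD, List.getElem?_eq_getElem hlen, Option.getD_some]
    exact List.getElem_mem hlen
  choose σ hσ using fun i => fIdx_surj (hmem _ (hmemf i))
  obtain ⟨-, hi, -⟩ := move_family hw fIdx_lt fIdx_inj (fun i j h => (fIdx_adj h).1)
  have hσi : Function.Injective σ := fun i j h => hi (by
    show runW _ (fIdx i) = runW _ (fIdx j)
    rw [← hσ, ← hσ, h])
  refine ⟨((wordFrame.getD a.val []).map gen).prod, ?_,
    Equiv.ofBijective σ (Finite.injective_iff_bijective.1 hσi), ?_, fun i => ?_⟩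
  · rw [MM_eq]; exact (word_props _ hw _ base_lt).1
  · refine fIdx_inj ?_
    rw [Equiv.ofBijective_apply, hσ, fIdx_zero, hr]
  · rw [fr_eq, fr_eq, (word_props _ hw _ (fIdx_lt i)).2.2, Equiv.ofBijective_apply, hσ]

end H20.O8Cover
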