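import Cfsg.Agent.H20.O8Cover.Lift
import Cfsg.Agent.H6.O8Cover.Facts
import Cfsg.Agent.S1082
import Cfsg.Agent.S0817
import Mathlib.Algebra.Group.Shrink

/-!
Identification of double covers of O₈⁺(2) with the model, and its automorphisms.
-/

set_option autoImplicit false
set_option maxRecDepth 100000

namespace H20.O8Cover

open Cfsg.Lie Subgroup H76.Exc
open scoped commutatorElement

universe u v

theorem MM_eq : H6.O8.MM = M := by
  refine congrArg Subgroup.closure ?_
  ext g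
  exact ⟨fun ⟨r, hr, e⟩ => ⟨r, hr, e.symm⟩, fun ⟨r, hr, e⟩ => ⟨r, hr, e.symm⟩⟩

/-- The product of the two reflections lies in the cover. -/
def bridgeOK : Bool :=
  let A := H6.O8.mrows [1, 0, 2, 3, 4, 5, 6, 7] [1, 1, 1, 1, 1, 1, 1, 1]
  (rmul A (H6.O8.rtr A) == rsc 1) && (rmul (H6.O8.rtr A) A == rsc 1) &&
    rEqPM (rmul reflRows A) (rwd d4LiftA [3, 4, 20, 21, 2, 4])

theorem bridgeCert : bridgeOK = true := by decide +kernel

theorem g0_mul_rR_mem : g0 * H6.O8.rR ∈ M := by
  have h := bridgeCert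
  simp only [bridgeOK, Bool.and_eq_true, beq_iff_eq] at h
  obtain ⟨⟨h1, h2⟩, h3⟩ := h
  have hlt : ∀ r ∈ [3, 4, 20, 21, 2, 4], r < 24 := by simp
  have hw : ((([3, 4, 20, 21, 2, 4].map gen).prod) : GL (Fin 8) (ZMod 3)) ∈ M :=
    list_prod_mem fun y hy => by
      obtain ⟨r, hr, rfl⟩ := List.mem_map.1 hy
      exact gen_mem (hlt r hr)
  have hv : ((g0 * H6.O8.rR : GL (Fin 8) (ZMod 3)) : Matrix (Fin 8) (Fin 8) (ZMod 3)) =
      toM (rmul reflRows (H6.O8.mrows [1, 0, 2, 3, 4, 5, 6, 7] [1, 1, 1, 1, 1, 1, 1, 1])) := by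
    rw [Units.val_mul, toM_rmul, H6.O8.rR, H6.O8.fr, H6.O8.mono, H6.O8.glOf, dif_pos ⟨h1, h2⟩]
    rfl
  rcases eq_or_neg_of_eqPM hv (rwd_val liftRelA _ hlt) h3 with e | e <;> rw [e]
  · exact hw
  · exact mul_mem neg_one_mem hw

theorem rR_mem_W : H6.O8.rR ∈ W := by
  have := mul_mem (inv_mem g0_mem_W) (M_le_W g0_mul_rR_mem)
  rwa [inv_mul_cancel_left] at this

theorem WW_eq : H6.O8.WW = W := by
  rw [H6.O8.WW, MM_eq]
  refine le_antisymm (sup_le M_le_W (zpowers_le.2 rR_mem_W)) (sup_le le_sup_left (zpowers_le.2 ?_))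
  have := mul_mem (mem_sup_left (T := zpowers H6.O8.rR) g0_mul_rR_mem)
    (inv_mem (mem_sup_right (S := M) (mem_zpowers H6.O8.rR)))
  rwa [mul_inv_cancel_right] at this

theorem z_mem : H6.O8.zM ∈ H6.O8.MM := MM_eq ▸ neg_one_mem

theorem center_pm : ∀ x ∈ H6.O8.MM, (∀ y ∈ H6.O8.MM, x * y = y * x) → x = 1 ∨ x = H6.O8.zM := by
  rw [MM_eq]
  exact fun x _ h => eq_one_or_neg_of_commute fun m hm => (h m hm).symm

theorem normal_WW : ∀ w ∈ H6.O8.WW, ∀ x ∈ H6.O8.MM, w * x * w⁻¹ ∈ H6.O8.MM := by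
  rw [MM_eq, WW_eq]
  exact fun w hw x hx => (mem_normalizer_iff.1 (W_le_normalizer hw) x).1 hx

theorem outer_not_mem : H6.O8.rR ∉ H6.O8.MM := by
  rw [MM_eq]
  intro h
  refine g0_ne_pm (mul_mem g0_mul_rR_mem (inv_mem h)) ?_
  rw [mul_inv_cancel_right]

section Iso

variable {F : Type v} [Field F] [Fintype F] (h2 : Fintype.card F = 2)
include h2

theorem nonempty_iso_model {Γ : Type v} [Group Γ] {σ : Γ →* ↥(chevD4.group F)}
    (h : IsDoubleCover σ) : Nonempty (Γ ≃* ↥M) := by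
  obtain ⟨-, -, -, -, -, -, -, -, -, hc5, hc11, hc10, -⟩ := d4Facts
  obtain ⟨π, hs, hgen, hk⟩ := exists_proj h2
  let U : ULift.{v} ↥M ≃* ↥M := MulEquiv.ulift
  let π' : ULift.{v} ↥M →* ↥(chevD4.group F) := π.comp U.toMonoidHom
  have hd := proj_doubleCover h2 hs hk
  have hker : π'.ker = π.ker.comap U.toMonoidHom := by ext x; rfl
  have hd' : IsDoubleCover π' := by
    refine ⟨hs.comp U.surjective, fun x hx => ?_, ?_, ?_⟩
    · refine mem_center_iff.2 fun g => U.injective ?_
      rw [map_mul, map_mul]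
      exact mem_center_iff.1 (hd.2.1 hx) _
    · have e := map_commutator_eq U.symm.toMonoidHom (G := ↥M)
      rw [commutator_eq_top, ← MonoidHom.range_eq_map, MonoidHom.range_eq_top.2
        U.symm.surjective, ← _root_.commutator_def] at e
      exact e.symm
    · rw [← hd.2.2.2]
      exact Nat.card_congr (U.toEquiv.subtypeEquiv fun x => Iff.rfl)
  have lift : ∀ r, ∀ hr : r < 24, π' (U.symm ⟨gen r, gen_mem hr⟩) = x1 F r :=
    fun r hr => hgen r hr
  have v5 : rootComm hd'.1 23 5 = 1 := by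
    rw [← rootComm_eq hd'.1 hd'.2.1 (lift 23 (by norm_num)) (lift 5 (by norm_num)),
      ← map_commutatorElement, MulEquiv.map_eq_one_iff]
    exact Subtype.ext comm_five
  have v11 : rootComm hd'.1 23 11 ≠ 1 := by
    rw [← rootComm_eq hd'.1 hd'.2.1 (lift 23 (by norm_num)) (lift 11 (by norm_num)),
      ← map_commutatorElement, Ne, MulEquiv.map_eq_one_iff]
    intro e
    exact neg_one_ne_one (comm_eleven.symm.trans (congrArg Subtype.val e))
  obtain ⟨σ', h', a5, a11⟩ := exists_normalised h2 h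
  obtain ⟨e⟩ := iso_of_kinds h2 h' hd' a5 v5 a11 v11
  exact ⟨e.trans U⟩

end Iso

theorem isoStmt_of {L : Type u} [Group L] [Finite L] {F : Type v} [Field F] [Fintype F]
    (h2 : Fintype.card F = 2) (hp : commutator L = ⊤) (hz : Nat.card (center L) = 2)
    (hq : Nonempty (L ⧸ center L ≃* Cfsg.POmega F (Cfsg.quadFormPlus 4 F))) :
    Nonempty (L ≃* ↥M) := by
  obtain ⟨e⟩ := hq
  obtain ⟨c⟩ := Cfsg.Agent.S1082.result (F := F)
  have : Small.{v} L := Small.mk' ((Finite.equivFin L).trans Equiv.ulift.{v}.symm)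
  let s : Shrink.{v} L ≃* L := Shrink.mulEquiv
  let σ : Shrink.{v} L →* ↥(chevD4.group F) :=
    (c.symm.toMonoidHom.comp e.toMonoidHom).comp ((QuotientGroup.mk' (center L)).comp s.toMonoidHom)
  have hk : ∀ x, x ∈ σ.ker ↔ s x ∈ center L := by
    intro x
    simp [σ, MonoidHom.mem_ker]
  have hd : IsDoubleCover σ := by
    refine ⟨(c.symm.surjective.comp e.surjective).comp
      ((QuotientGroup.mk'_surjective _).comp s.surjective), fun x hx => ?_, ?_, ?_⟩
    · refine mem_center_iff.2 fun g => s.injective ?_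
      rw [map_mul, map_mul]
      exact mem_center_iff.1 ((hk x).1 hx) _
    · have e' := map_commutator_eq s.symm.toMonoidHom (G := L)
      rw [hp, ← MonoidHom.range_eq_map, MonoidHom.range_eq_top.2 s.symm.surjective,
        ← _root_.commutator_def] at e'
      exact e'.symm
    · rw [← hz]
      exact Nat.card_congr (s.toEquiv.subtypeEquiv hk)
  obtain ⟨i⟩ := nonempty_iso_model h2 hd
  exact ⟨s.symm.trans i⟩

section Aut

theorem card_mulAut_two {F : Type} [Field F] [Fintype F] (h2 : Fintype.card F = 2) :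
    Nat.card (MulAut ↥(chevD4.group F)) = 6 * Nat.card ↥(chevD4.group F) := by
  obtain ⟨c⟩ := Cfsg.Agent.S1082.result (F := F)
  have : Fact (Nat.Prime 2) := ⟨Nat.prime_two⟩
  rw [Nat.card_congr (MulAut.congr c).toEquiv, Nat.card_congr c.toEquiv,
    Cfsg.Agent.S0817.result 2 1 le_rfl (by rw [h2, pow_one]) 4 le_rfl]
  simp

theorem aut_eq_conj (α : MulAut ↥M) :
    ∃ w ∈ W, ∀ x : ↥M, ((α x : ↥M) : GL (Fin 8) (ZMod 3)) = w * x * w⁻¹ := by
  classical
  have h2 : Fintype.card (ZMod 2) = 2 := ZMod.card 2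
  have : Fact (Nat.Prime 2) := ⟨Nat.prime_two⟩
  obtain ⟨π, hs, hgen, hk⟩ := exists_proj (F := ZMod 2) h2
  have hd := proj_doubleCover h2 hs hk
  have hkc : π.ker = center ↥M := le_antisymm hd.2.1 fun x hx => (hk x).2 (eq_one_or_neg_of_mem_center hx)
  let G := ↥(chevD4.group (ZMod 2))
  have hpres : ∀ (β : MulAut ↥M) (x y : ↥M), π x = π y → π (β x) = π (β y) := by
    intro β x y h
    have hx : x⁻¹ * y ∈ center ↥M := by rw [← hkc, MonoidHom.mem_ker, map_mul, map_inv, h, inv_mul_cancel]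
    have hb : β (x⁻¹ * y) ∈ center ↥M := mem_center_iff.2 fun g => by
      obtain ⟨g, rfl⟩ := β.surjective g
      rw [← map_mul, ← map_mul, mem_center_iff.1 hx g]
    rw [← hkc, MonoidHom.mem_ker, map_mul, map_inv, map_mul, map_inv, inv_mul_eq_one] at hb
    exact hb
  obtain ⟨ind, hind⟩ : ∃ ind : MulAut ↥M → G → G, ∀ β x, ind β (π x) = π (β x) :=
    ⟨fun β g => π (β (Function.surjInv hs g)), fun β x => hpres β _ _ (Function.surjInv_eq hs _)⟩
  let φ : MulAut ↥M →* MulAut G :=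
    MonoidHom.mk' (fun β =>
      { toFun := ind β
        invFun := ind β⁻¹
        left_inv := fun g => by
          obtain ⟨x, rfl⟩ := hs g
          rw [hind, hind, MulAut.inv_apply_self]
        right_inv := fun g => by
          obtain ⟨x, rfl⟩ := hs g
          rw [hind, hind, MulAut.apply_inv_self]
        map_mul' := fun g g' => by
          obtain ⟨x, rfl⟩ := hs g
          obtain ⟨y, rfl⟩ := hs g'
          rw [← map_mul π, hind, hind, hind, map_mul, map_mul] })
      fun β γ => by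
        refine MulEquiv.ext fun g => ?_
        obtain ⟨x, rfl⟩ := hs g
        show ind (β * γ) (π x) = ind β (ind γ (π x))
        rw [hind, hind, hind, MulAut.mul_apply]
  have hφ : ∀ β x, φ β (π x) = π (β x) := hind
  have hφi : Function.Injective φ := by
    rw [injective_iff_map_eq_one]
    intro β hβ
    have hz : ∀ x, x⁻¹ * β x ∈ center ↥M := fun x => by
      rw [← hkc, MonoidHom.mem_ker, map_mul, map_inv, ← hφ, hβ, MulAut.one_apply, inv_mul_cancel]
    have hfix : commutator ↥M ≤ MonoidHom.eqLocus β.toMonoidHom (MonoidHom.id ↥M) := by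
      refine Subgroup.commutator_le.2 fun a _ b _ => ?_
      show β ⁅a, b⁆ = ⁅a, b⁆
      rw [map_commutatorElement]
      exact H76.Cover.comm_congr π hd.2.1 (by rw [← hφ, hβ, MulAut.one_apply])
        (by rw [← hφ, hβ, MulAut.one_apply])
    rw [commutator_eq_top] at hfix
    exact MulEquiv.ext fun x => hfix (mem_top x)
  -- conjugation by the Weyl group
  let c : ↥W →* MulAut ↥M := M.normalizerMonoidHom.comp (Subgroup.inclusion W_le_normalizer)
  have hc : ∀ (w : ↥W) (x : ↥M), ((c w x : ↥M) : GL (Fin 8) (ZMod 3)) = w * x * (w : GL (Fin 8) (ZMod 3))⁻¹ :=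
    fun w x => rfl
  have hinn : ∀ m : ↥M, φ (c ⟨m, M_le_W m.2⟩) = MulAut.conj (π m) := by
    intro m
    refine MulEquiv.ext fun g => ?_
    obtain ⟨x, rfl⟩ := hs g
    rw [hφ, MulAut.conj_apply, ← map_inv, ← map_mul, ← map_mul]
    exact congrArg π (Subtype.ext (hc _ x))
  let A : Subgroup (MulAut G) := (φ.comp c).range
  let B : Subgroup (MulAut G) := φ.range
  let I : Subgroup (MulAut G) := (MulAut.conj (G := G)).range
  have hIA : I ≤ A := by
    rintro _ ⟨g, rfl⟩
    obtain ⟨m, rfl⟩ := hs g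
    exact ⟨_, hinn m⟩
  have hAB : A ≤ B := by rintro _ ⟨w, rfl⟩; exact ⟨c w, rfl⟩
  have hIn : I.Normal := ⟨by
    rintro _ ⟨g, rfl⟩ β
    exact ⟨β g, MulEquiv.ext fun x => by simp [MulAut.conj_apply]⟩⟩
  have hI : I.index = 6 := by
    have : IsSimpleGroup G := group_simple_two h2
    have hcinj : Function.Injective (MulAut.conj (G := G)) := by
      rw [injective_iff_map_eq_one]
      intro g hg
      have hgc : g ∈ center G := mem_center_iff.2 fun x => by
        have e := DFunLike.congr_fun hg x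
        rw [MulAut.conj_apply, MulAut.one_apply, mul_inv_eq_iff_eq_mul] at e
        exact e.symm
      rcases (inferInstance : IsSimpleGroup G).eq_bot_or_eq_top_of_normal (center G) inferInstance with h | h
      · rwa [h, mem_bot] at hgc
      · exfalso
        have := group_perfect_two (F := ZMod 2) h2
        have hb : commutator G ≤ ⊥ := Subgroup.commutator_le.2 fun a _ b _ => by
          rw [mem_bot, commutatorElement_eq_one_iff_commute]
          exact (mem_center_iff.1 (h ▸ mem_top a : a ∈ center G) b).symm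
        rw [show commutator G = ⊤ from this] at hb
        exact absurd (le_bot_iff.1 hb) top_ne_bot
    have h6 := Subgroup.index_mul_card I
    rw [Nat.card_congr (MonoidHom.ofInjective hcinj).toEquiv.symm, card_mulAut_two h2] at h6
    exact Nat.eq_of_mul_eq_mul_right Nat.card_pos h6
  let β0 : MulAut G := φ (c ⟨g0, g0_mem_W⟩)
  have hβ0 : β0 ∉ I := by
    rintro ⟨g, hg⟩
    obtain ⟨m, rfl⟩ := hs g
    have e : c ⟨m, M_le_W m.2⟩ = c ⟨g0, g0_mem_W⟩ := hφi ((hinn m).trans hg)
    have hcomm : ∀ x ∈ M, x * ((m : GL (Fin 8) (ZMod 3))⁻¹ * g0) = (m : GL (Fin 8) (ZMod 3))⁻¹ * g0 * x := by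
      intro x hx
      have e1 := congrArg (fun β : MulAut ↥M => ((β ⟨x, hx⟩ : ↥M) : GL (Fin 8) (ZMod 3))) e
      simp only [hc] at e1
      calc x * ((m : GL (Fin 8) (ZMod 3))⁻¹ * g0)
          = (m : GL (Fin 8) (ZMod 3))⁻¹ * (↑m * x * (↑m)⁻¹) * g0 := by group
        _ = (m : GL (Fin 8) (ZMod 3))⁻¹ * (g0 * x * g0⁻¹) * g0 := by rw [e1]
        _ = _ := by group
    rcases eq_one_or_neg_of_commute hcomm with h | h
    · exact g0_ne_pm m.2 (inv_mul_eq_one.1 h).symm
    · exact g0_ne_pm (mul_mem m.2 neg_one_mem) (by rw [← h, mul_inv_cancel_left])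
  have hβA : β0 ∈ A := ⟨_, rfl⟩
  have hBtop : B ≠ ⊤ := by
    intro hB
    obtain ⟨τ, t23, t5, t10, t11⟩ := exists_triality (F := ZMod 2) h2
    obtain ⟨β, hβ⟩ : τ ∈ B := by rw [hB]; exact mem_top τ
    have lift : ∀ r s, ∀ hr : r < 24, ∀ hs' : s < 24, τ (x1 (ZMod 2) r) = x1 (ZMod 2) s →
        π (β ⟨gen r, gen_mem hr⟩) = π ⟨gen s, gen_mem hs'⟩ := by
      intro r s hr hs' h
      rw [← hφ, hβ, hgen r hr, hgen s hs']; exact h
    have h23 := lift 23 23 (by norm_num) (by norm_num) t23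
    have h5 := lift 5 10 (by norm_num) (by norm_num) t5
    have e := H76.Cover.comm_congr π hd.2.1 h23 h5
    rw [← map_commutatorElement, show ⁅(⟨gen 23, gen_mem (by norm_num)⟩ : ↥M), (⟨gen 5, gen_mem (by norm_num)⟩ : ↥M)⁆ = 1
      from Subtype.ext comm_five, map_one] at e
    exact neg_one_ne_one (comm_ten.symm.trans (congrArg Subtype.val e).symm)
  let q := QuotientGroup.mk' I
  have hq : Nat.card (MulAut G ⧸ I) = 6 := by rw [← hI]; rfl
  have : Finite (MulAut G ⧸ I) := Nat.finite_of_card_ne_zero (by omega)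
  have hcomap : ∀ S : Subgroup (MulAut G), I ≤ S → (S.map q).comap q = S := fun S hS => by
    rw [Subgroup.comap_map_eq, QuotientGroup.ker_mk', sup_eq_left.2 hS]
  have h2A : 2 ∣ Nat.card (A.map q) := by
    have hne : q β0 ≠ 1 := fun h => hβ0 ((QuotientGroup.eq_one_iff _).1 h)
    have ho : orderOf (q β0) = 2 := orderOf_eq_prime (by
      rw [← map_pow, ← map_pow φ, ← map_pow c, show (⟨g0, g0_mem_W⟩ : ↥W) ^ 2 = 1 from
        Subtype.ext (by rw [SubmonoidClass.coe_pow, pow_two]; exact g0_sq), map_one, map_one, map_one]) hne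
    have := orderOf_dvd_natCard (G := A.map q) ⟨q β0, mem_map_of_mem q hβA⟩
    rwa [Subgroup.orderOf_mk, ho] at this
  have hB6 : Nat.card (B.map q) ∣ 6 := hq ▸ card_subgroup_dvd_card _
  have hBne : Nat.card (B.map q) ≠ 6 := fun h => hBtop (by
    have : B.map q = ⊤ := Subgroup.eq_top_of_card_eq _ (h.trans hq.symm)
    rw [← hcomap B (hIA.trans hAB), this, comap_top])
  have hABq : Nat.card (A.map q) ∣ Nat.card (B.map q) := card_dvd_of_le (map_mono hAB)
  have hcard : Nat.card (B.map q) = Nat.card (A.map q) := by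
    have hb := Nat.le_of_dvd (by norm_num) hB6
    have ha := Nat.le_of_dvd Nat.card_pos hABq
    interval_cases hbq : Nat.card (B.map q) <;> interval_cases haq : Nat.card (A.map q) <;>
      first | rfl | omega
  have hmap : A.map q = B.map q := Subgroup.eq_of_le_of_card_ge (map_mono hAB) hcard.le
  have hA : A = B := by rw [← hcomap A hIA, hmap, hcomap B (hIA.trans hAB)]
  obtain ⟨w, hw⟩ : φ α ∈ A := by rw [hA]; exact ⟨α, rfl⟩
  refine ⟨w, w.2, fun x => ?_⟩
  rw [← hφi hw]
  exact hc w x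

end Aut

end H20.O8Cover

namespace H6.O8

open Subgroup

universe u v

theorem isoStmt : IsoStmt.{u, v} := by
  intro L _ _ F _ _ h2 hp hz hq
  obtain ⟨e⟩ := H20.O8Cover.isoStmt_of h2 hp.commutator_eq_top hz hq
  exact ⟨e.trans (MulEquiv.subgroupCongr H20.O8Cover.MM_eq.symm)⟩

theorem isoFacts : IsoFacts where
  aut α := by
    let e : ↥MM ≃* ↥H20.O8Cover.M := MulEquiv.subgroupCongr H20.O8Cover.MM_eq
    obtain ⟨w, hw, h⟩ := H20.O8Cover.aut_eq_conj (e.symm.trans (α.trans e))
    exact ⟨w, H20.O8Cover.WW_eq ▸ hw, fun x => h (e x)⟩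

end H6.O8
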