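import Mathlib.Data.List.Basic

/-!
Chains of rotations writing some elements of the model as products of elements of order three.
-/

set_option autoImplicit false

namespace H20.O8Cover

/-- Minus the involution of codimension two. -/
def chainZA : List (ℕ × ℕ) := [(29, 12), (12, 28), (11, 2), (2, 10), (1, 2), (2, 0)]

/-- A sign change on two coordinates. -/
def chainD1 : List (ℕ × ℕ) := [(28, 12), (12, 29)]

/-- A second sign change on two coordinates. -/
def chainD2 : List (ℕ × ℕ) := [(26, 6), (6, 27)]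

/-- Two involutions fixing a triangle, and the lines involved. -/
def chainTri : List (ℕ × ℕ) × List (ℕ × ℕ) × (ℕ × ℕ × ℕ) := ([(0, 2), (2, 10)], [(0, 2), (2, 16)], (0, 10, 16))

/-- For each further line of the frame: a chain and two involutions. -/
def chainPair : List (List (ℕ × ℕ) × List (ℕ × ℕ) × List (ℕ × ℕ) × (ℕ × ℕ × ℕ)) := [
  ([(29, 12), (12, 28), (11, 2), (2, 10), (1, 2), (2, 0)], [(0, 2), (2, 10)], [(0, 2), (2, 16)], (0, 10, 16)),
  ([(54, 55), (55, 28), (11, 2), (2, 10), (1, 2), (2, 0)], [(0, 2), (2, 1)], [(0, 2), (2, 57)], (0, 1, 57)),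
  ([(54, 63), (63, 29), (11, 2), (2, 10), (1, 2), (2, 0)], [(0, 2), (2, 1)], [(0, 3), (3, 63)], (0, 1, 63)),
  ([(54, 63), (63, 29), (28, 16), (16, 10), (1, 2), (2, 0)], [(0, 12), (12, 1)], [(0, 12), (12, 63)], (0, 1, 63)),
  ([(54, 63), (63, 29), (28, 16), (16, 11), (1, 2), (2, 0)], [(0, 12), (12, 1)], [(0, 13), (13, 57)], (0, 1, 57)),
  ([(54, 63), (63, 29), (28, 16), (16, 11), (10, 2), (2, 0)], [(0, 55), (55, 10)], [(0, 55), (55, 16)], (0, 10, 16)),
  ([(54, 63), (63, 29), (28, 16), (16, 11), (10, 2), (2, 1)], [(1, 63), (63, 10)], [(1, 59), (59, 16)], (1, 10, 16))]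

/-- The element of order four with square minus one. -/
def chainT : List ((ℕ × ℕ) × (ℕ × ℕ)) := [((0, 55), (1, 98)), ((4, 82), (7, 110)), ((40, 108), (51, 85))]

end H20.O8Cover
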