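import Cfsg.Agent.H20.O8Cover.Quad
import Cfsg.Agent.H20.O8Cover.KData

/-!
Facts on the subgroups generated by the elements of odd order of some centralisers in the model:
the involutions of codimension two and six, the element of order four, and the reflections.
-/

set_option autoImplicit false
set_option maxRecDepth 100000

namespace H20.O8Cover

open H76.Exc Subgroup

/-- The product of the reflections of a list of pairs. -/
def chain (l : List (ℕ × ℕ)) : H6.O8.GG := (l.map fun pq => Rf pq.1 * Rf pq.2).prod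

/-- The same product, by rows. -/
def chainRows (l : List (ℕ × ℕ)) : List (List ℕ) :=
  l.foldr (fun pq X => rmul (rmul (refRows (root pq.1)) (refRows (root pq.2))) X) (rsc 1)

/-- All pairs are rotations of order three orthogonal to the given lines. -/
def chainOK (cons : List ℕ) (l : List (ℕ × ℕ)) : Bool :=
  l.all fun pq => decide (pq.1 < 120) && decide (pq.2 < 120) &&
    (let X := rmul (refRows (root pq.1)) (refRows (root pq.2))
     rmul X (rmul X X) == rsc 1) &&
    cons.all fun c => decide (c < 120) && adj c pq.1 && adj c pq.2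

/-- The pairs are within range. -/
def chainLt (l : List (ℕ × ℕ)) : Bool := l.all fun pq => decide (pq.1 < 120) && decide (pq.2 < 120)

theorem chain_val : ∀ l : List (ℕ × ℕ), chainLt l = true →
    ((chain l : H6.O8.GG) : Matrix (Fin 8) (Fin 8) (ZMod 3)) = toM (chainRows l) := by
  intro l
  induction l with
  | nil => intro _; simp [chain, chainRows, toM_one]
  | cons pq l ih =>
    intro h
    simp only [chainLt, List.all_cons, Bool.and_eq_true, decide_eq_true_eq] at h
    have e : chain (pq :: l) = Rf pq.1 * Rf pq.2 * chain l := by simp [chain, mul_assoc]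
    rw [e, Units.val_mul, Units.val_mul, Rf_val h.1.1, Rf_val h.1.2, ← toM_rmul, ih h.2, ← toM_rmul]
    rfl

theorem chainLt_of_ok {cons : List ℕ} {l : List (ℕ × ℕ)} (h : chainOK cons l = true) :
    chainLt l = true := by
  simp only [chainOK, chainLt, List.all_eq_true, Bool.and_eq_true] at h ⊢
  exact fun pq hpq => (h pq hpq).1.1

theorem Rf_pair_mem {p q : ℕ} (hp : p < 120) (hq : q < 120) : Rf p * Rf q ∈ M := by
  obtain ⟨m, hm, em⟩ := word_one hp
  obtain ⟨n, hn, en⟩ := word_one hq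
  rw [two_conj (by rw [rR_eq]; exact Rf_sq base_lt) em en]
  exact mul_mem (mul_mem (inv_mem hm)
    ((mem_normalizer_iff.1 (W_le_normalizer rR_mem_W) _).1 (mul_mem hm (inv_mem hn)))) hn

/-- A chain lies in the subgroup generated by the elements of odd order centralising what
commutes with all reflections orthogonal to the given lines. -/
theorem chain_mem {cons : List ℕ} {l : List (ℕ × ℕ)} (h : chainOK cons l = true) {S : Set H6.O8.GG}
    (hS : ∀ x ∈ H6.O8.MM, Odd (orderOf x) →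
      (∀ c ∈ cons, c < 120 → Commute (Rf c) x) → x ∈ S) :
    chain l ∈ Subgroup.closure S := by
  refine list_prod_mem fun y hy => ?_
  obtain ⟨pq, hpq, rfl⟩ := List.mem_map.1 hy
  simp only [chainOK, List.all_eq_true, Bool.and_eq_true, decide_eq_true_eq, beq_iff_eq] at h
  obtain ⟨⟨⟨hp, hq⟩, hcube⟩, hcons⟩ := h pq hpq
  refine Subgroup.subset_closure (hS _ (MM_eq ▸ Rf_pair_mem hp hq)
    (Odd.of_dvd_nat (by decide) (orderOf_dvd_of_pow_eq_one (cube_eq_one (Rf_val hp) (Rf_val hq) hcube)))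
    fun c hc hc' => ?_)
  obtain ⟨⟨-, ap⟩, aq⟩ := hcons c hc
  exact Commute.mul_right (Rf_commute hc' hp ap) (Rf_commute hc' hq aq)

theorem rA_eq : H6.O8.rA = H6.O8.fr 0 * H6.O8.fr 1 := by
  have h : (let A := H6.O8.mrows [0, 1, 2, 3, 4, 5, 6, 7] [2, 2, 1, 1, 1, 1, 1, 1]
      (rmul A (H6.O8.rtr A) == rsc 1) && (rmul (H6.O8.rtr A) A == rsc 1) &&
      (rmul (refRows (root (fIdx 0))) (refRows (root (fIdx 1))) == A)) = true := by decide +kernel
  simp only [Bool.and_eq_true, beq_iff_eq] at h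
  obtain ⟨⟨h1, h2⟩, h3⟩ := h
  refine Units.ext ?_
  rw [fr_eq, fr_eq, Units.val_mul, Rf_val (fIdx_lt 0), Rf_val (fIdx_lt 1), ← toM_rmul, h3, H6.O8.rA,
    H6.O8.mono, H6.O8.glOf, dif_pos ⟨h1, h2⟩]

theorem zM_comm (x : H6.O8.GG) : Commute H6.O8.zM x := by
  refine Units.ext ?_
  simp [H6.O8.zM]

theorem zM_zM : H6.O8.zM * H6.O8.zM = (1 : H6.O8.GG) := by simp [H6.O8.zM]

theorem commute_rB_iff {x : H6.O8.GG} : Commute H6.O8.rB x ↔ Commute H6.O8.rA x := by
  constructor
  · intro h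
    have := ((zM_comm x).mul_left h)
    rwa [H6.O8.rB, ← mul_assoc, zM_zM, one_mul] at this
  · exact fun h => (zM_comm x).mul_left h

theorem Kc_rB : H6.O8.Kc H6.O8.rB = H6.O8.Kc H6.O8.rA := by
  simp only [H6.O8.Kc, commute_rB_iff]

theorem commute_rA {x : H6.O8.GG} (h : ∀ c ∈ [fIdx 0, fIdx 1], c < 120 → Commute (Rf c) x) :
    Commute H6.O8.rA x := by
  rw [rA_eq, fr_eq, fr_eq]
  exact (h _ (by simp) (fIdx_lt 0)).mul_left (h _ (by simp) (fIdx_lt 1))

theorem chain_mem_A {l : List (ℕ × ℕ)} (h : chainOK [fIdx 0, fIdx 1] l = true) :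
    chain l ∈ H6.O8.Kc H6.O8.rA :=
  chain_mem h fun _ hx ho hc => ⟨hx, commute_rA hc, ho⟩

theorem eq_of_pow_sign {x : H6.O8.GG} (ho : Odd (orderOf x)) {v : Fin 8 → ZMod 3}
    (hv : dotProduct v v = 2)
    (h : (x : Matrix (Fin 8) (Fin 8) (ZMod 3)).mulVec v = -v) : False := by
  have hpow : ∀ n : ℕ, ((x ^ n : H6.O8.GG) : Matrix (Fin 8) (Fin 8) (ZMod 3)).mulVec v =
      (-1 : ZMod 3) ^ n • v := by
    intro n
    induction n with
    | zero => simp
    | succ n ihn =>
      rw [pow_succ, Units.val_mul, ← Matrix.mulVec_mulVec, h, Matrix.mulVec_neg, ihn, pow_succ,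
        mul_neg_one, neg_smul]
  have e := hpow (orderOf x)
  rw [pow_orderOf_eq_one, Units.val_one, Matrix.one_mulVec, ho.neg_one_pow] at e
  have e2 := congrArg (dotProduct v) e
  rw [dotProduct_smul, hv] at e2
  exact absurd e2 (by decide)

/-- Only two lines lie in the negated space of the involution of codimension two. -/
def rALines : Bool :=
  (List.range 120).all fun k => (k == fIdx 0) || (k == fIdx 1) ||
    ([2, 3, 4, 5, 6, 7] : List (Fin 8)).any fun t => !adj (fIdx t) k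

theorem rALinesCert : rALines = true := by decide +kernel

theorem Kc_rA_fix {y : H6.O8.GG} (hy : y ∈ H6.O8.Kc H6.O8.rA) :
    (y : Matrix (Fin 8) (Fin 8) (ZMod 3)).mulVec (fv 0) = fv 0 ∧
      (y : Matrix (Fin 8) (Fin 8) (ZMod 3)).mulVec (fv 1) = fv 1 := by
  induction hy using Subgroup.closure_induction with
  | mem x hx =>
    obtain ⟨hxM, hcom, hodd⟩ := hx
    rw [MM_eq] at hxM
    have hAi : ∀ i, (H6.O8.rA : Matrix (Fin 8) (Fin 8) (ZMod 3)).mulVec (fv i) =
        if i = 0 ∨ i = 1 then -fv i else fv i := by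
      intro i
      rw [rA_eq, Units.val_mul, ← Matrix.mulVec_mulVec, fr_fv]
      by_cases h1 : i = 1
      · subst h1; simp [Matrix.mulVec_neg, fr_fv]
      · by_cases h0 : i = 0
        · subst h0; simp [fr_fv]
        · simp [h0, h1, fr_fv]
    have img : ∀ i : Fin 8, (i = 0 ∨ i = 1) →
        ∃ j : Fin 8, (j = 0 ∨ j = 1) ∧ ((x : Matrix (Fin 8) (Fin 8) (ZMod 3)).mulVec (fv i) = fv j ∨
          (x : Matrix (Fin 8) (Fin 8) (ZMod 3)).mulVec (fv i) = -fv j) := by
      intro i hi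
      obtain ⟨k, hk, ek⟩ := (mem_M_props hxM).2 _ (fIdx_lt i)
      have hA : (H6.O8.rA : Matrix (Fin 8) (Fin 8) (ZMod 3)).mulVec (rvv k) = -rvv k := by
        have e : (H6.O8.rA : Matrix (Fin 8) (Fin 8) (ZMod 3)).mulVec
            ((x : Matrix (Fin 8) (Fin 8) (ZMod 3)).mulVec (fv i)) =
            -((x : Matrix (Fin 8) (Fin 8) (ZMod 3)).mulVec (fv i)) := by
          rw [Matrix.mulVec_mulVec, ← Units.val_mul, hcom.eq, Units.val_mul, ← Matrix.mulVec_mulVec,
            hAi, if_pos hi, Matrix.mulVec_neg]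
        change (x : Matrix (Fin 8) (Fin 8) (ZMod 3)).mulVec (fv i) = rvv k ∨
          (x : Matrix (Fin 8) (Fin 8) (ZMod 3)).mulVec (fv i) = -rvv k at ek
        rcases ek with e' | e' <;> rw [e'] at e
        · exact e
        · rwa [Matrix.mulVec_neg, neg_inj] at e
      have hc := rALinesCert
      simp only [rALines, List.all_eq_true, List.mem_range, Bool.or_eq_true, beq_iff_eq,
        List.any_eq_true, Bool.not_eq_true'] at hc
      have hcases : k = fIdx 0 ∨ k = fIdx 1 := by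
        refine (hc k hk).resolve_right ?_
        rintro ⟨t, ht, hadj⟩
        have ht' : ¬ (t = 0 ∨ t = 1) :=
          (by decide : ∀ t : Fin 8, t ∈ ([2, 3, 4, 5, 6, 7] : List (Fin 8)) → ¬ (t = 0 ∨ t = 1)) t ht
        have hA2 : (H6.O8.rA : Matrix (Fin 8) (Fin 8) (ZMod 3)).mulVec (rvv k) =
            rvv k - dotProduct (rvv (fIdx 1)) (rvv k) • fv 1 -
              dotProduct (fv 0) (rvv k - dotProduct (rvv (fIdx 1)) (rvv k) • fv 1) • fv 0 := by
          rw [rA_eq, Units.val_mul, ← Matrix.mulVec_mulVec, fr_eq, fr_eq, Rf_mulVec (fIdx_lt 1),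
            Rf_mulVec (fIdx_lt 0)]
          rfl
        have hd := congrArg (dotProduct (fv t)) (hA2.symm.trans hA)
        rw [dotProduct_sub, dotProduct_sub, dotProduct_smul, dotProduct_smul, dotProduct_neg,
          fv_dot, fv_dot, if_neg (fun h => ht' (Or.inr h)), if_neg (fun h => ht' (Or.inl h)),
          smul_zero, smul_zero, sub_zero, sub_zero] at hd
        have h0 : dotProduct (fv t) (rvv k) = 0 := by
          revert hd
          generalize dotProduct (fv t) (rvv k) = D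
          revert D
          decide
        rw [(adj_iff (fIdx_lt t) hk).2 h0] at hadj
        exact Bool.noConfusion hadj
      rcases hcases with rfl | rfl
      · exact ⟨0, Or.inl rfl, ek⟩
      · exact ⟨1, Or.inr rfl, ek⟩
    obtain ⟨j0, hj0, e0⟩ := img 0 (Or.inl rfl)
    obtain ⟨j1, hj1, e1⟩ := img 1 (Or.inr rfl)
    set X : Matrix (Fin 8) (Fin 8) (ZMod 3) := (x : Matrix (Fin 8) (Fin 8) (ZMod 3))
    by_cases hswap : j0 = 1
    · exfalso
      subst hswap
      have hne : j1 = 0 := by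
        refine hj1.resolve_right fun h => ?_
        subst h
        have h01 : fv 0 = fv 1 ∨ fv 0 = -fv 1 := by
          have hi : Function.Injective X.mulVec := Matrix.mulVec_injective_of_isUnit x.isUnit
          rcases e0 with a | a <;> rcases e1 with b | b
          · exact Or.inl (hi (a.trans b.symm))
          · exact Or.inr (hi (by rw [Matrix.mulVec_neg, a, b, neg_neg]))
          · exact Or.inr (hi (by rw [Matrix.mulVec_neg, a, b]))
          · exact Or.inl (hi (a.trans b.symm))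
        exact absurd (fIdx_inj (line_inj (fIdx_lt 0) (fIdx_lt 1) h01)) (by decide)
      subst hne
      -- the square of `x` moves the second line back, an odd power cannot swap
      have hstep : ∀ n : ℕ, ∃ j : Fin 8, (Even n ↔ j = 0) ∧ (j = 0 ∨ j = 1) ∧
          (((x ^ n : H6.O8.GG) : Matrix (Fin 8) (Fin 8) (ZMod 3)).mulVec (fv 0) = fv j ∨
            ((x ^ n : H6.O8.GG) : Matrix (Fin 8) (Fin 8) (ZMod 3)).mulVec (fv 0) = -fv j) := by
        intro n
        induction n with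
        | zero => exact ⟨0, by simp, Or.inl rfl, Or.inl (by simp)⟩
        | succ n ih =>
          obtain ⟨j, hev, hj, e⟩ := ih
          have hx : ((x ^ (n + 1) : H6.O8.GG) : Matrix (Fin 8) (Fin 8) (ZMod 3)).mulVec (fv 0) =
              X.mulVec (((x ^ n : H6.O8.GG) : Matrix (Fin 8) (Fin 8) (ZMod 3)).mulVec (fv 0)) := by
            rw [pow_succ', Units.val_mul, ← Matrix.mulVec_mulVec]
          rcases hj with rfl | rfl
          · refine ⟨1, ?_, Or.inr rfl, ?_⟩
            · simp [Nat.even_add_one, hev.2 rfl]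
            · rcases e with e | e <;> rcases e0 with a | a <;>
                simp only [hx, e, a, Matrix.mulVec_neg, neg_neg] <;>
                first | exact Or.inl rfl | exact Or.inr rfl | exact Or.inl trivial | exact Or.inr trivial
          · refine ⟨0, ?_, Or.inl rfl, ?_⟩
            · have : ¬ Even n := fun h => absurd (hev.1 h) (by decide)
              simp [Nat.even_add_one, this]
            · rcases e with e | e <;> rcases e1 with a | a <;>
                simp only [hx, e, a, Matrix.mulVec_neg, neg_neg] <;>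
                first | exact Or.inl rfl | exact Or.inr rfl | exact Or.inl trivial | exact Or.inr trivial
      obtain ⟨j, hev, hj, e⟩ := hstep (orderOf x)
      have hj1' : j = 1 := hj.resolve_left fun h => Nat.not_even_iff_odd.2 hodd (hev.2 h)
      subst hj1'
      rw [pow_orderOf_eq_one, Units.val_one, Matrix.one_mulVec] at e
      exact absurd (fIdx_inj (line_inj (fIdx_lt 0) (fIdx_lt 1) e)) (by decide)
    · have hj0' : j0 = 0 := hj0.resolve_right hswap
      subst hj0'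
      have hj1' : j1 = 1 := by
        refine hj1.resolve_left fun h => ?_
        subst h
        have hi : Function.Injective X.mulVec := Matrix.mulVec_injective_of_isUnit x.isUnit
        have h01 : fv 0 = fv 1 ∨ fv 0 = -fv 1 := by
          rcases e0 with a | a <;> rcases e1 with b | b
          · exact Or.inl (hi (a.trans b.symm))
          · exact Or.inr (hi (by rw [Matrix.mulVec_neg, a, b, neg_neg]))
          · exact Or.inr (hi (by rw [Matrix.mulVec_neg, a, b]))
          · exact Or.inl (hi (a.trans b.symm))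
        exact absurd (fIdx_inj (line_inj (fIdx_lt 0) (fIdx_lt 1) h01)) (by decide)
      subst hj1'
      exact ⟨e0.resolve_right fun e => eq_of_pow_sign hodd (by rw [fv_dot, if_pos rfl]) e,
        e1.resolve_right fun e => eq_of_pow_sign hodd (by rw [fv_dot, if_pos rfl]) e⟩
  | one => simp
  | mul x z _ _ hx hz =>
    exact ⟨by rw [Units.val_mul, ← Matrix.mulVec_mulVec, hz.1, hx.1],
      by rw [Units.val_mul, ← Matrix.mulVec_mulVec, hz.2, hx.2]⟩
  | inv x _ hx =>
    refine ⟨?_, ?_⟩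
    · conv_lhs => rw [← hx.1]
      rw [Matrix.mulVec_mulVec, Units.inv_mul, Matrix.one_mulVec]
    · conv_lhs => rw [← hx.2]
      rw [Matrix.mulVec_mulVec, Units.inv_mul, Matrix.one_mulVec]

theorem fv_ne_neg (i : Fin 8) : -fv i ≠ fv i := fun h => by
  have e := congrArg (dotProduct (fv i)) h
  rw [dotProduct_neg, fv_dot, if_pos rfl] at e
  exact absurd e (by decide)

theorem k_A_z : H6.O8.zM ∉ H6.O8.Kc H6.O8.rA := fun h => by
  have e := (Kc_rA_fix h).1
  rw [H6.O8.zM, Units.val_neg, Units.val_one, Matrix.neg_mulVec, Matrix.one_mulVec] at e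
  exact fv_ne_neg 0 e

theorem k_A_u : H6.O8.rA ∉ H6.O8.Kc H6.O8.rA := fun h => by
  have e := (Kc_rA_fix h).1
  rw [rA_eq, Units.val_mul, ← Matrix.mulVec_mulVec, fr_fv, if_neg (by decide), fr_fv, if_pos rfl] at e
  exact fv_ne_neg 0 e

/-- The certificate for chains at the involution of codimension two. -/
def aOK : Bool :=
  chainOK [fIdx 0, fIdx 1] chainZA && chainOK [fIdx 0, fIdx 1] chainD1 &&
    chainOK [fIdx 0, fIdx 1] chainD2 &&
    (chainRows chainZA == rmul (rsc 2) (rmul (refRows (root (fIdx 0))) (refRows (root (fIdx 1))))) &&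
    (chainRows chainD1 == H6.O8.mrows [0, 1, 2, 3, 4, 5, 6, 7] [1, 1, 2, 2, 1, 1, 1, 1]) &&
    (chainRows chainD2 == H6.O8.mrows [0, 1, 2, 3, 4, 5, 6, 7] [1, 1, 2, 1, 2, 1, 1, 1])

theorem aCert : aOK = true := by decide +kernel

theorem k_A_zu : H6.O8.zM * H6.O8.rA ∈ H6.O8.Kc H6.O8.rA := by
  have h := aCert
  simp only [aOK, Bool.and_eq_true, beq_iff_eq] at h
  obtain ⟨⟨⟨⟨⟨h1, -⟩, -⟩, e⟩, -⟩, -⟩ := h
  have : H6.O8.zM * H6.O8.rA = chain chainZA := by
    refine Units.ext ?_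
    rw [chain_val _ (chainLt_of_ok h1), e, toM_rmul, toM_two, toM_rmul, rA_eq, fr_eq, fr_eq,
      Units.val_mul, Units.val_mul, Rf_val (fIdx_lt 0), Rf_val (fIdx_lt 1), H6.O8.zM, Units.val_neg,
      Units.val_one]
  rw [this]
  exact chain_mem_A h1

theorem k_B_z : H6.O8.zM ∉ H6.O8.Kc H6.O8.rB := by
  rw [Kc_rB]
  exact k_A_z

theorem k_B_u : H6.O8.rB ∈ H6.O8.Kc H6.O8.rB := by
  rw [Kc_rB, H6.O8.rB]
  exact k_A_zu

theorem diag_one : toM (H6.O8.mrows [0, 1, 2, 3, 4, 5, 6, 7] [1, 1, 2, 2, 1, 1, 1, 1]) =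
    Matrix.diagonal fun i : Fin 8 => ((([1, 1, 2, 2, 1, 1, 1, 1] : List ℕ).getD i.val 0 : ℕ) : ZMod 3) := by
  decide +kernel

theorem diag_two : toM (H6.O8.mrows [0, 1, 2, 3, 4, 5, 6, 7] [1, 1, 2, 1, 2, 1, 1, 1]) =
    Matrix.diagonal fun i : Fin 8 => ((([1, 1, 2, 1, 2, 1, 1, 1] : List ℕ).getD i.val 0 : ℕ) : ZMod 3) := by
  decide +kernel

theorem k_B_root : ∀ b ∈ H6.O8.Kc H6.O8.rB, (∀ x ∈ H6.O8.Kc H6.O8.rB, b * x = x * b) →
    b * b ≠ H6.O8.rB := by
  rw [Kc_rB]
  intro b _ hb hsq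
  have h := aCert
  simp only [aOK, Bool.and_eq_true, beq_iff_eq] at h
  obtain ⟨⟨⟨⟨⟨-, h1⟩, h2⟩, -⟩, e1⟩, e2⟩ := h
  set B : Matrix (Fin 8) (Fin 8) (ZMod 3) := (b : Matrix (Fin 8) (Fin 8) (ZMod 3))
  have hcomm : ∀ {l : List (ℕ × ℕ)} {s : List ℕ}, chainOK [fIdx 0, fIdx 1] l = true →
      toM (chainRows l) = Matrix.diagonal (fun i : Fin 8 => ((s.getD i.val 0 : ℕ) : ZMod 3)) → ∀ i j : Fin 8,
      B i j * ((s.getD j.val 0 : ℕ) : ZMod 3) = ((s.getD i.val 0 : ℕ) : ZMod 3) * B i j := by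
    intro l s hl es i j
    have := congrArg Units.val (hb _ (chain_mem_A hl))
    rw [Units.val_mul, Units.val_mul, chain_val _ (chainLt_of_ok hl), es] at this
    have := congrFun (congrFun this i) j
    rwa [Matrix.mul_diagonal, Matrix.diagonal_mul] at this
  have h2j : ∀ i : Fin 8, i ≠ 2 → B i 2 = 0 := by
    intro i hi
    have a := hcomm h1 (by rw [e1, diag_one]) i 2
    have c := hcomm h2 (by rw [e2, diag_two]) i 2
    revert a c
    generalize B i 2 = t
    revert t
    revert hi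
    fin_cases i <;> decide
  have e : (B * B) 2 2 = B 2 2 * B 2 2 := by
    rw [Matrix.mul_apply, Finset.sum_eq_single (2 : Fin 8)]
    · intro k _ hk
      rw [h2j k hk, mul_zero]
    · simp
  have hB : (H6.O8.rB : Matrix (Fin 8) (Fin 8) (ZMod 3)) 2 2 = -1 := by
    rw [H6.O8.rB, rA_eq, fr_eq, fr_eq, H6.O8.zM]
    simp only [Units.val_mul, Units.val_neg, neg_mul, one_mul, Matrix.neg_apply,
      Rf_val (fIdx_lt 0), Rf_val (fIdx_lt 1), ← toM_rmul]
    decide +kernel
  rw [← hsq, Units.val_mul] at hB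
  rw [show (B * B) 2 2 = _ from e] at hB
  revert hB
  generalize B 2 2 = t
  revert t
  decide

theorem k_R_z : H6.O8.zM ∉ H6.O8.Kc H6.O8.rR := fun h => by
  rw [H6.O8.rR] at h
  have e := (Kc_fix h).2
  rw [H6.O8.zM, Units.val_neg, Units.val_one, Matrix.neg_mulVec, Matrix.one_mulVec] at e
  exact fv_ne_neg 0 e

/-- The certificate at the element of order four. -/
def tOK : Bool :=
  let A := H6.O8.mrows [1, 0, 3, 2, 5, 4, 7, 6] [1, 2, 1, 2, 1, 2, 1, 2]
  (rmul A (H6.O8.rtr A) == rsc 1) && (rmul (H6.O8.rtr A) A == rsc 1) && (rmul A A == rsc 2) &&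
    (chainRows (chainT.flatMap fun g => [g.1, g.2]) == A) &&
    chainT.all fun g =>
      let X := chainRows [g.1, g.2]
      decide (g.1.1 < 120) && decide (g.1.2 < 120) && decide (g.2.1 < 120) && decide (g.2.2 < 120) &&
        (rmul A X == rmul X A) && (rmul X (rmul X X) == rsc 1)

theorem tCert : tOK = true := by decide +kernel

theorem k_T_sq : H6.O8.rT * H6.O8.rT = H6.O8.zM := by
  have h := tCert
  simp only [tOK, Bool.and_eq_true, beq_iff_eq] at h
  obtain ⟨⟨⟨⟨h1, h2⟩, h3⟩, -⟩, -⟩ := h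
  refine Units.ext ?_
  rw [H6.O8.rT, H6.O8.mono, H6.O8.glOf, dif_pos ⟨h1, h2⟩, Units.val_mul, ← toM_rmul, h3, toM_two,
    H6.O8.zM, Units.val_neg, Units.val_one]

theorem k_T_self : H6.O8.rT ∈ H6.O8.Kc H6.O8.rT := by
  have h := tCert
  simp only [tOK, Bool.and_eq_true, beq_iff_eq, List.all_eq_true, decide_eq_true_eq] at h
  obtain ⟨⟨⟨⟨h1, h2⟩, -⟩, eT⟩, hall⟩ := h
  have hT : ((H6.O8.rT : H6.O8.GG) : Matrix (Fin 8) (Fin 8) (ZMod 3)) =
      toM (H6.O8.mrows [1, 0, 3, 2, 5, 4, 7, 6] [1, 2, 1, 2, 1, 2, 1, 2]) := by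
    rw [H6.O8.rT, H6.O8.mono, H6.O8.glOf, dif_pos ⟨h1, h2⟩]
  have hlt : chainLt (chainT.flatMap fun g => [g.1, g.2]) = true := by
    simp only [chainLt, List.all_eq_true, List.mem_flatMap, Bool.and_eq_true, decide_eq_true_eq]
    rintro pq ⟨g, hg, hpq⟩
    obtain ⟨⟨⟨⟨⟨a, b⟩, c⟩, d⟩, -⟩, -⟩ := hall g hg
    simp only [List.mem_cons, List.not_mem_nil, or_false] at hpq
    rcases hpq with rfl | rfl
    exacts [⟨a, b⟩, ⟨c, d⟩]
  have e : H6.O8.rT = chain (chainT.flatMap fun g => [g.1, g.2]) :=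
    Units.ext (by rw [chain_val _ hlt, eT, hT])
  have key : ∀ L : List ((ℕ × ℕ) × (ℕ × ℕ)), (∀ g ∈ L, g ∈ chainT) →
      chain (L.flatMap fun g => [g.1, g.2]) ∈ H6.O8.Kc H6.O8.rT := by
    intro L
    induction L with
    | nil => intro _; simp [chain]
    | cons g L ih =>
      intro hL
      have hg := hL g List.mem_cons_self
      obtain ⟨⟨⟨⟨⟨a, b⟩, c⟩, d⟩, hc⟩, h3⟩ := hall g hg
      have e' : chain ((g :: L).flatMap fun g => [g.1, g.2]) =
          chain [g.1, g.2] * chain (L.flatMap fun g => [g.1, g.2]) := by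
        simp [chain, mul_assoc]
      rw [e']
      refine mul_mem (Subgroup.subset_closure ⟨?_, ?_, ?_⟩) (ih fun q hq => hL q (List.mem_cons_of_mem _ hq))
      · rw [MM_eq, show chain [g.1, g.2] = Rf g.1.1 * Rf g.1.2 * (Rf g.2.1 * Rf g.2.2) by simp [chain]]
        exact mul_mem (Rf_pair_mem a b) (Rf_pair_mem c d)
      · refine Units.ext ?_
        rw [Units.val_mul, Units.val_mul, hT, chain_val _ (by simp [chainLt, a, b, c, d]), ← toM_rmul,
          ← toM_rmul, hc]
      · refine Odd.of_dvd_nat (by decide) (orderOf_dvd_of_pow_eq_one (n := 3) (Units.ext ?_))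
        rw [pow_succ', pow_two]
        simp only [Units.val_mul, chain_val _ (show chainLt [g.1, g.2] = true by simp [chainLt, a, b, c, d]),
          ← toM_rmul]
        rw [h3, toM_one, Units.val_one]
  have := key chainT fun g hg => hg
  rwa [← e] at this

/-- Two involutions with product of order three, and a chain for each. -/
def triOK (cons : List ℕ) (x y : List (ℕ × ℕ)) (pqs : ℕ × ℕ × ℕ) : Bool :=
  let p := pqs.1
  let q := pqs.2.1
  let s := pqs.2.2
  let P := chainRows x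
  let Q := chainRows y
  let Z := rmul P Q
  chainOK cons x && chainOK cons y && decide (p < 120) && decide (q < 120) && decide (s < 120) &&
    (rmul P P == rsc 1) && (rmul Q Q == rsc 1) && (rmul Z (rmul Z Z) == rsc 1) &&
    rdiff Z (rsc 1)

theorem not_two_product {cons : List ℕ} {lx ly : List (ℕ × ℕ)} {pqs : ℕ × ℕ × ℕ}
    (h : triOK cons lx ly pqs = true) :
    H6.O8.Two (chain lx) ∧ H6.O8.Two (chain ly) ∧ ¬ H6.O8.Two (chain lx * chain ly) := by
  simp only [triOK, Bool.and_eq_true, beq_iff_eq] at h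
  obtain ⟨⟨⟨⟨⟨⟨⟨⟨hx, hy⟩, -⟩, -⟩, -⟩, hP⟩, hQ⟩, hZ⟩, hd⟩ := h
  have vx := chain_val _ (chainLt_of_ok hx)
  have vy := chain_val _ (chainLt_of_ok hy)
  refine ⟨⟨1, ?_⟩, ⟨1, ?_⟩, ?_⟩
  · refine Units.ext ?_
    rw [show 2 ^ 1 = 2 from rfl, pow_two, Units.val_mul, vx, ← toM_rmul, hP, toM_one, Units.val_one]
  · refine Units.ext ?_
    rw [show 2 ^ 1 = 2 from rfl, pow_two, Units.val_mul, vy, ← toM_rmul, hQ, toM_one, Units.val_one]
  · rintro ⟨n, hn⟩
    have h3 : (chain lx * chain ly) ^ 3 = 1 := cube_eq_one vx vy hZ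
    have hd1 := Nat.dvd_gcd (orderOf_dvd_of_pow_eq_one h3) (orderOf_dvd_of_pow_eq_one hn)
    have hg : Nat.gcd 3 (2 ^ n) = 1 := Nat.Coprime.pow_right n (by decide)
    rw [hg, Nat.dvd_one, orderOf_eq_one_iff] at hd1
    refine toM_ne_of_rdiff hd ?_
    rw [toM_rmul, ← vx, ← vy, ← Units.val_mul, hd1, Units.val_one, toM_one]

/-- Orthogonal lines give conjugates of the involution of codimension two. -/
theorem mconj_rA {k l : ℕ} (hk : k < 120) (hl : l < 120) (h : adj k l = true) :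
    H6.O8.MConj (Rf k * Rf l) H6.O8.rA := by
  obtain ⟨m, hm, em⟩ := word_one hk
  obtain ⟨l', hl', el, evl⟩ := exists_conj_Rf hm hl
  have hadj : adj base l' = true := by
    have hcm : Rf base * Rf l' = Rf l' * Rf base := by
      rw [← rR_eq, ← el, ← em, conj_mul, conj_mul, Rf_commute hk hl h]
    refine ((Rf_inj_comm base_lt hl').2 hcm).resolve_left fun e => adj_self hk ?_
    subst e
    rw [← rR_eq, ← em] at el
    rwa [(Rf_inj_comm hl hk).1 (mul_left_cancel (mul_right_cancel el))] at h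
  have hf := frameCert
  simp only [frameOK, Bool.and_eq_true, List.all_eq_true, List.mem_range, decide_eq_true_eq,
    beq_iff_eq, Bool.or_eq_true, Bool.not_eq_true'] at hf
  obtain ⟨⟨hw, r0⟩, r1⟩ := (hf.1.1 l' hl').resolve_left (by simp [hadj])
  obtain ⟨hm2, -, e0⟩ := word_props _ hw base base_lt
  obtain ⟨-, -, e1⟩ := word_props _ hw l' hl'
  rw [r0] at e0
  rw [r1] at e1
  set m2 := ((wordTwo.getD l' []).map gen).prod
  refine ⟨m2 * m, MM_eq ▸ mul_mem hm2 hm, ?_⟩
  rw [rA_eq, fr_eq, fr_eq]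
  show m2 * m * (Rf k * Rf l) * (m2 * m)⁻¹ = Rf base * Rf second
  calc m2 * m * (Rf k * Rf l) * (m2 * m)⁻¹ = m2 * ((m * Rf k * m⁻¹) * (m * Rf l * m⁻¹)) * m2⁻¹ := by group
    _ = (m2 * Rf base * m2⁻¹) * (m2 * Rf l' * m2⁻¹) := by rw [em, el, rR_eq]; group
    _ = _ := by rw [e0, e1]

/-- The certificate for the triangle. -/
def triAOK : Bool :=
  triOK [fIdx 0, fIdx 1, 52, 53] chainTri.1 chainTri.2.1 chainTri.2.2 &&
    adj 52 53 && adj 40 41 &&
    (rmul (rmul (refRows (root (fIdx 0))) (refRows (root (fIdx 1))))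
        (rmul (refRows (root 52)) (refRows (root 53))) ==
      rmul (refRows (root 40)) (refRows (root 41))) &&
    (rmul (rmul (refRows (root 52)) (refRows (root 53)))
        (rmul (refRows (root (fIdx 0))) (refRows (root (fIdx 1)))) ==
      rmul (refRows (root 40)) (refRows (root 41)))

theorem triACert : triAOK = true := by decide +kernel

theorem k_A_tri : ∃ v, H6.O8.MConj v H6.O8.rA ∧ H6.O8.MConj (H6.O8.rA * v) H6.O8.rA ∧
    H6.O8.rA * v = v * H6.O8.rA ∧
    ∃ x ∈ H6.O8.Kp H6.O8.rA v, ∃ y ∈ H6.O8.Kp H6.O8.rA v,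
      H6.O8.Two x ∧ H6.O8.Two y ∧ ¬ H6.O8.Two (x * y) := by
  have h := triACert
  simp only [triAOK, Bool.and_eq_true, beq_iff_eq] at h
  obtain ⟨⟨⟨⟨ht, a1⟩, a2⟩, e1⟩, e2⟩ := h
  have h52 : (52 : ℕ) < 120 := by norm_num
  have h53 : (53 : ℕ) < 120 := by norm_num
  have h40 : (40 : ℕ) < 120 := by norm_num
  have h41 : (41 : ℕ) < 120 := by norm_num
  have hAv : H6.O8.rA * (Rf 52 * Rf 53) = Rf 40 * Rf 41 := by
    refine Units.ext ?_
    rw [rA_eq, fr_eq, fr_eq]
    simp only [Units.val_mul, Rf_val (fIdx_lt 0), Rf_val (fIdx_lt 1), Rf_val h52, Rf_val h53,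
      Rf_val h40, Rf_val h41, ← toM_rmul]
    rw [e1]
  have hvA : Rf 52 * Rf 53 * H6.O8.rA = Rf 40 * Rf 41 := by
    refine Units.ext ?_
    rw [rA_eq, fr_eq, fr_eq]
    simp only [Units.val_mul, Rf_val (fIdx_lt 0), Rf_val (fIdx_lt 1), Rf_val h52, Rf_val h53,
      Rf_val h40, Rf_val h41, ← toM_rmul]
    rw [e2]
  obtain ⟨hx2, hy2, hxy⟩ := not_two_product ht
  simp only [triOK, Bool.and_eq_true] at ht
  have hS : ∀ x ∈ H6.O8.MM, Odd (orderOf x) →
      (∀ c ∈ [fIdx 0, fIdx 1, 52, 53], c < 120 → Commute (Rf c) x) →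
      x ∈ {x | x ∈ H6.O8.MM ∧ Commute H6.O8.rA x ∧ Commute (Rf 52 * Rf 53) x ∧ Odd (orderOf x)} :=
    fun x hx ho hc => ⟨hx, commute_rA (fun c hc' hlt => hc c (by
        simp only [List.mem_cons, List.not_mem_nil, or_false] at hc' ⊢
        omega) hlt),
      (hc 52 (by simp) h52).mul_left (hc 53 (by simp) h53), ho⟩
  exact ⟨Rf 52 * Rf 53, mconj_rA h52 h53 a1, hAv ▸ mconj_rA h40 h41 a2, hAv.trans hvA.symm,
    chain chainTri.1, chain_mem ht.1.1.1.1.1.1.1.1 hS, chain chainTri.2.1,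
    chain_mem ht.1.1.1.1.1.1.1.2 hS, hx2, hy2, hxy⟩

/-- The certificate for pairs of lines of the frame. -/
def pairOK : Bool :=
  (List.finRange 8).all fun i => (i == 0) ||
    (let d := chainPair.getD (i.val - 1) ([], [], [], (0, 0, 0))
     let Z := rmul (rsc 2) (rmul (refRows (root (fIdx 0))) (refRows (root (fIdx i))))
     chainOK [fIdx 0] d.1 && (chainRows d.1 == Z) && (rmul Z Z == rsc 1) &&
       triOK [fIdx 0, fIdx i] d.2.1 d.2.2.1 d.2.2.2)

theorem pairCert : pairOK = true := by decide +kernel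

theorem k_R_pair : ∀ i : Fin 8, i ≠ 0 → H6.O8.MConj (H6.O8.fr i) H6.O8.rR ∧
    H6.O8.zM * H6.O8.rR * H6.O8.fr i ∈ H6.O8.Kt H6.O8.rR ∧
    ∃ x ∈ H6.O8.Kp H6.O8.rR (H6.O8.fr i), ∃ y ∈ H6.O8.Kp H6.O8.rR (H6.O8.fr i),
      H6.O8.Two x ∧ H6.O8.Two y ∧ ¬ H6.O8.Two (x * y) := by
  intro i hi
  have h := pairCert
  simp only [pairOK, List.all_eq_true, List.mem_finRange, true_implies, Bool.or_eq_true, beq_iff_eq,
    Bool.and_eq_true] at h
  obtain ⟨⟨⟨hz, ez⟩, hzz⟩, ht⟩ := (h i).resolve_left hi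
  refine ⟨fr_conj' i, ?_, ?_⟩
  · have e : H6.O8.zM * H6.O8.rR * H6.O8.fr i =
        chain (chainPair.getD (i.val - 1) ([], [], [], (0, 0, 0))).1 := by
      refine Units.ext ?_
      rw [chain_val _ (chainLt_of_ok hz), ez, rR_eq, ← fIdx_zero, fr_eq, H6.O8.zM]
      simp only [Units.val_mul, Units.val_neg, Units.val_one, Rf_val (fIdx_lt 0), Rf_val (fIdx_lt i),
        toM_rmul, toM_two, mul_assoc]
    rw [e]
    refine Subgroup.subset_closure ⟨chain_mem hz fun x hx ho hc => ⟨hx, ?_, ho⟩, 1, Units.ext ?_⟩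
    · rw [rR_eq, ← fIdx_zero]; exact hc _ (by simp) (fIdx_lt 0)
    · rw [show 2 ^ 1 = 2 from rfl, pow_two, Units.val_mul, chain_val _ (chainLt_of_ok hz), ← toM_rmul,
        ez, hzz, toM_one, Units.val_one]
  · obtain ⟨hx2, hy2, hxy⟩ := not_two_product ht
    simp only [triOK, Bool.and_eq_true] at ht
    have hS : ∀ x ∈ H6.O8.MM, Odd (orderOf x) → (∀ c ∈ [fIdx 0, fIdx i], c < 120 → Commute (Rf c) x) →
        x ∈ {x | x ∈ H6.O8.MM ∧ Commute H6.O8.rR x ∧ Commute (H6.O8.fr i) x ∧ Odd (orderOf x)} :=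
      fun x hx ho hc => ⟨hx, by rw [rR_eq, ← fIdx_zero]; exact hc _ (by simp) (fIdx_lt 0),
        by rw [fr_eq]; exact hc _ (by simp) (fIdx_lt i), ho⟩
    exact ⟨_, chain_mem ht.1.1.1.1.1.1.1.1 hS, _, chain_mem ht.1.1.1.1.1.1.1.2 hS, hx2, hy2, hxy⟩

end H20.O8Cover
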