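import Cfsg.Agent.H20.O8Cover.KSmall
import Cfsg.Agent.H48.O8Std.DFacts

/-!
Facts on the centraliser of a product of three orthogonal reflections in the model.
-/

set_option autoImplicit false
set_option maxRecDepth 100000

namespace H20.O8Cover

open H76.Exc Subgroup

/-- The product of the three reflections, by rows. -/
def pRows : List (List ℕ) :=
  rmul (rmul (refRows (root (fIdx 0))) (refRows (root (fIdx 2)))) (refRows (root (fIdx 4)))

theorem rP_val : ((H6.O8.rP : H6.O8.GG) : Matrix (Fin 8) (Fin 8) (ZMod 3)) = toM pRows := by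
  rw [H6.O8.rP, fr_eq, fr_eq, fr_eq, Units.val_mul, Units.val_mul, Rf_val (fIdx_lt 0),
    Rf_val (fIdx_lt 2), Rf_val (fIdx_lt 4), ← toM_rmul, ← toM_rmul]
  rfl

/-- The three indices. -/
def eIdx (i : Fin 3) : Fin 8 := if i = 0 then 0 else if i = 1 then 2 else 4

/-- The negated lines are the three, and one fixed line is orthogonal to all other fixed ones. -/
def pLinesOK : Bool :=
  (List.range 120).all fun k =>
    let w := rvec pRows (root k)
    ((!(w == rsmul 2 (root k)) || (List.finRange 3).any fun i => k == fIdx (eIdx i)) &&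
      (vdiff w (root k) || (k == fIdx 6) ||
        (List.range 120).any fun l => !vdiff (rvec pRows (root l)) (root l) && (l != k) && !adj k l)) &&
    (vdiff w (rsmul 2 (root k)) || (w == rsmul 2 (root k)))

theorem pLinesCert : pLinesOK = true := by decide +kernel

theorem vec_eq_of_not_vdiff {u v : List ℕ} (h : vdiff u v = false) : vec u = vec v := by
  funext i
  refine (ZMod.natCast_eq_natCast_iff' _ _ _).2 ?_
  by_contra hne
  have : vdiff u v = true := by
    simp only [vdiff, List.any_eq_true, List.mem_range, bne_iff_ne]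
    exact ⟨i.val, i.isLt, hne⟩
  rw [h] at this
  exact Bool.noConfusion this

theorem p_neg_line {k : ℕ} (hk : k < 120)
    (h : (H6.O8.rP : Matrix (Fin 8) (Fin 8) (ZMod 3)).mulVec (rvv k) = -rvv k) :
    ∃ i, k = fIdx (eIdx i) := by
  have hc := pLinesCert
  simp only [pLinesOK, List.all_eq_true, List.mem_range, Bool.and_eq_true, Bool.or_eq_true,
    Bool.not_eq_true', List.any_eq_true, List.mem_finRange, true_and, beq_iff_eq] at hc
  obtain ⟨⟨h1, -⟩, h3⟩ := hc k hk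
  rcases h3 with h3 | h3
  · exfalso
    refine vec_ne_of_vdiff h3 ?_
    rw [rP_val, rvv, ← vec_rvec] at h
    rw [h, vec_rsmul, show ((2 : ℕ) : ZMod 3) = -1 from by decide, neg_one_smul]
  · refine h1.resolve_left ?_
    rw [beq_eq_false_iff_ne, ne_eq, not_not]
    exact h3

theorem p_fix_line {k : ℕ} (hk : k < 120)
    (h : (H6.O8.rP : Matrix (Fin 8) (Fin 8) (ZMod 3)).mulVec (rvv k) = rvv k)
    (hadj : ∀ l < 120, (H6.O8.rP : Matrix (Fin 8) (Fin 8) (ZMod 3)).mulVec (rvv l) = rvv l →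
      l ≠ k → adj k l = true) :
    k = fIdx 6 := by
  have hc := pLinesCert
  simp only [pLinesOK, List.all_eq_true, List.mem_range, Bool.and_eq_true, Bool.or_eq_true,
    List.any_eq_true, bne_iff_ne, beq_iff_eq, Bool.not_eq_true'] at hc
  obtain ⟨⟨-, h2⟩, -⟩ := hc k hk
  rcases h2 with (hd | e) | ⟨l, hl, ⟨hfix, hne⟩, hna⟩
  · exfalso
    rw [rP_val, rvv, ← vec_rvec] at h
    exact vec_ne_of_vdiff hd h
  · exact e
  · exfalso
    have hfl : (H6.O8.rP : Matrix (Fin 8) (Fin 8) (ZMod 3)).mulVec (rvv l) = rvv l := by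
      rw [rP_val, rvv, ← vec_rvec, vec_eq_of_not_vdiff hfix]
    rw [hadj l hl hfl hne] at hna
    exact Bool.noConfusion hna

theorem rP_fv (i : Fin 8) : (H6.O8.rP : Matrix (Fin 8) (Fin 8) (ZMod 3)).mulVec (fv i) =
    if i = 0 ∨ i = 2 ∨ i = 4 then -fv i else fv i := by
  rw [H6.O8.rP, Units.val_mul, Units.val_mul, ← Matrix.mulVec_mulVec, ← Matrix.mulVec_mulVec]
  by_cases h4 : i = 4
  · subst h4; simp [fr_fv, Matrix.mulVec_neg]
  by_cases h2 : i = 2
  · subst h2; simp [fr_fv, Matrix.mulVec_neg]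
  by_cases h0 : i = 0
  · subst h0; simp [fr_fv]
  · simp [fr_fv, h0, h2, h4]

theorem rP_fv_e (i : Fin 3) : (H6.O8.rP : Matrix (Fin 8) (Fin 8) (ZMod 3)).mulVec (fv (eIdx i)) =
    -fv (eIdx i) := by
  rw [rP_fv, if_pos]
  revert i
  decide

theorem comm_mulVec {x : H6.O8.GG} (h : Commute H6.O8.rP x) (v : Fin 8 → ZMod 3) :
    (H6.O8.rP : Matrix (Fin 8) (Fin 8) (ZMod 3)).mulVec ((x : Matrix (Fin 8) (Fin 8) (ZMod 3)).mulVec v) =
      (x : Matrix (Fin 8) (Fin 8) (ZMod 3)).mulVec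
        ((H6.O8.rP : Matrix (Fin 8) (Fin 8) (ZMod 3)).mulVec v) := by
  rw [Matrix.mulVec_mulVec, Matrix.mulVec_mulVec, ← Units.val_mul, ← Units.val_mul, h.eq]

theorem image_e {x : H6.O8.GG} (hx : x ∈ M) (h : Commute H6.O8.rP x) (j : Fin 3) :
    ∃ k : Fin 3, (x : Matrix (Fin 8) (Fin 8) (ZMod 3)).mulVec (fv (eIdx j)) = fv (eIdx k) ∨
      (x : Matrix (Fin 8) (Fin 8) (ZMod 3)).mulVec (fv (eIdx j)) = -fv (eIdx k) := by
  obtain ⟨l, hl, e⟩ := (mem_M_props hx).2 _ (fIdx_lt (eIdx j))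
  have hn : (H6.O8.rP : Matrix (Fin 8) (Fin 8) (ZMod 3)).mulVec (rvv l) = -rvv l := by
    have e1 := comm_mulVec h (fv (eIdx j))
    rw [rP_fv_e, Matrix.mulVec_neg] at e1
    change (x : Matrix (Fin 8) (Fin 8) (ZMod 3)).mulVec (fv (eIdx j)) = rvv l ∨
      (x : Matrix (Fin 8) (Fin 8) (ZMod 3)).mulVec (fv (eIdx j)) = -rvv l at e
    rcases e with e | e <;> rw [e] at e1
    · exact e1
    · rwa [Matrix.mulVec_neg, neg_inj] at e1
  obtain ⟨k, rfl⟩ := p_neg_line hl hn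
  exact ⟨k, e⟩

/-- The action on the three lines. -/
def gram (x : H6.O8.GG) : Matrix (Fin 3) (Fin 3) (ZMod 3) :=
  Matrix.of fun i j =>
    2 * dotProduct (fv (eIdx i)) ((x : Matrix (Fin 8) (Fin 8) (ZMod 3)).mulVec (fv (eIdx j)))

theorem eIdx_inj {i j : Fin 3} (h : eIdx i = eIdx j) : i = j := by revert i j; decide

theorem gram_one : gram 1 = 1 := by
  ext i j
  rw [gram, Matrix.of_apply, Units.val_one, Matrix.one_mulVec, fv_dot, Matrix.one_apply]
  by_cases h : i = j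
  · subst h; rw [if_pos rfl, if_pos rfl]; decide
  · rw [if_neg h, if_neg (fun e => h (eIdx_inj e)), mul_zero]

theorem gram_mul (x : H6.O8.GG) {y : H6.O8.GG} (hy : y ∈ M) (hc : Commute H6.O8.rP y) :
    gram (x * y) = gram x * gram y := by
  ext i j
  obtain ⟨k, e⟩ := image_e hy hc j
  have hcol : ∀ l, l ≠ k → gram y l j = 0 := by
    intro l hl
    rw [gram, Matrix.of_apply]
    rcases e with e | e <;> rw [e] <;>
      simp [fv_dot, if_neg (fun h => hl (eIdx_inj h))]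
  rw [Matrix.mul_apply, Finset.sum_eq_single k (fun l _ hl => by rw [hcol l hl, mul_zero]) (by simp)]
  simp only [gram, Matrix.of_apply, Units.val_mul, ← Matrix.mulVec_mulVec]
  rcases e with e | e <;> rw [e]
  · rw [fv_dot, if_pos rfl, show (2 : ZMod 3) * 2 = 1 from by decide, mul_one]
  · rw [Matrix.mulVec_neg, dotProduct_neg, dotProduct_neg, fv_dot, if_pos rfl,
      show (2 : ZMod 3) * -2 = -1 from by decide]
    ring

theorem Kc_P_det {y : H6.O8.GG} (hy : y ∈ H6.O8.Kc H6.O8.rP) :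
    y ∈ M ∧ Commute H6.O8.rP y ∧ (gram y).det = 1 := by
  induction hy using Subgroup.closure_induction with
  | mem x hx =>
    obtain ⟨hxM, hc, hodd⟩ := hx
    rw [MM_eq] at hxM
    refine ⟨hxM, hc, ?_⟩
    have hpow : ∀ n : ℕ, gram (x ^ n) = gram x ^ n := by
      intro n
      induction n with
      | zero => rw [pow_zero, pow_zero, gram_one]
      | succ n ih => rw [pow_succ, gram_mul _ hxM hc, ih, pow_succ]
    have e := congrArg Matrix.det (hpow (orderOf x))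
    rw [pow_orderOf_eq_one, gram_one, Matrix.det_one, Matrix.det_pow] at e
    obtain ⟨m, hm⟩ := hodd
    rw [hm, pow_succ, pow_mul] at e
    revert e
    generalize (gram x).det = d
    intro e
    rcases (by decide : ∀ a : ZMod 3, a = 0 ∨ a ^ 2 = 1) d with h | h
    · rw [h, mul_zero] at e; exact absurd e.symm zero_ne_one
    · rw [h, one_pow, one_mul] at e; exact e.symm
  | one => exact ⟨one_mem _, Commute.one_right _, by rw [gram_one, Matrix.det_one]⟩
  | mul x z _ _ hx hz =>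
    exact ⟨mul_mem hx.1 hz.1, hx.2.1.mul_right hz.2.1,
      by rw [gram_mul _ hz.1 hz.2.1, Matrix.det_mul, hx.2.2, hz.2.2, one_mul]⟩
  | inv x _ hx =>
    refine ⟨inv_mem hx.1, hx.2.1.inv_right, ?_⟩
    have e := congrArg Matrix.det (gram_mul x⁻¹ hx.1 hx.2.1)
    rw [inv_mul_cancel, gram_one, Matrix.det_one, Matrix.det_mul, hx.2.2, mul_one] at e
    exact e.symm

theorem k_P_z : H6.O8.zM ∉ H6.O8.Kc H6.O8.rP := fun h => by
  have e := (Kc_P_det h).2.2
  have hg : gram H6.O8.zM = -1 := by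
    ext i j
    rw [gram, Matrix.of_apply, H6.O8.zM, Units.val_neg, Units.val_one, Matrix.neg_mulVec,
      Matrix.one_mulVec, dotProduct_neg, fv_dot, Matrix.neg_apply, Matrix.one_apply]
    by_cases h : i = j
    · subst h; rw [if_pos rfl, if_pos rfl]; decide
    · rw [if_neg h, if_neg (fun e => h (eIdx_inj e))]; simp
  rw [hg, Matrix.det_neg, Matrix.det_one, Fintype.card_fin] at e
  exact absurd e (by decide)

/-- The last line of the frame is orthogonal to all other fixed ones. -/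
def pSixOK : Bool :=
  (List.range 120).all fun m =>
    vdiff (rvec pRows (root m)) (root m) || (m == fIdx 6) || adj (fIdx 6) m

theorem pSixCert : pSixOK = true := by decide +kernel

theorem comm_fr_six {x : H6.O8.GG} (hx : x ∈ M) (hc : Commute H6.O8.rP x) :
    Commute (H6.O8.fr 6) x := by
  obtain ⟨k, hk, ek, ev⟩ := exists_conj_Rf hx (fIdx_lt 6)
  set X : Matrix (Fin 8) (Fin 8) (ZMod 3) := (x : Matrix (Fin 8) (Fin 8) (ZMod 3))
  have h6 : (H6.O8.rP : Matrix (Fin 8) (Fin 8) (ZMod 3)).mulVec (fv 6) = fv 6 := by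
    rw [rP_fv, if_neg (by decide)]
  have hfix : (H6.O8.rP : Matrix (Fin 8) (Fin 8) (ZMod 3)).mulVec (rvv k) = rvv k := by
    have e1 := comm_mulVec hc (fv 6)
    rw [h6] at e1
    change X.mulVec (fv 6) = rvv k ∨ X.mulVec (fv 6) = -rvv k at ev
    change (H6.O8.rP : Matrix (Fin 8) (Fin 8) (ZMod 3)).mulVec (X.mulVec (fv 6)) = X.mulVec (fv 6) at e1
    rcases ev with e | e <;> rw [e] at e1
    · exact e1
    · rwa [Matrix.mulVec_neg, neg_inj] at e1
  have hk6 : k = fIdx 6 := by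
    refine p_fix_line hk hfix fun l hl hlf hne => ?_
    obtain ⟨m, hm, em, evm⟩ := exists_conj_Rf (inv_mem hx) hl
    have hmf : (H6.O8.rP : Matrix (Fin 8) (Fin 8) (ZMod 3)).mulVec (rvv m) = rvv m := by
      have e1 := comm_mulVec (x := x⁻¹) hc.inv_right (rvv l)
      rw [hlf] at e1
      rcases evm with e | e <;> rw [e] at e1
      · exact e1
      · rwa [Matrix.mulVec_neg, neg_inj] at e1
    have hback : x * Rf m * x⁻¹ = Rf l := by rw [← em]; group
    have hm6 : m ≠ fIdx 6 := fun e => hne ((Rf_inj_comm hl hk).1 (by rw [← hback, e, ek]))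
    have hadj : adj (fIdx 6) m = true := by
      rw [adj_iff (fIdx_lt 6) hm]
      have hc' := pSixCert
      simp only [pSixOK, List.all_eq_true, List.mem_range, Bool.or_eq_true, beq_iff_eq] at hc'
      rcases hc' m hm with (hd | e) | e
      · exfalso
        rw [rP_val, rvv, ← vec_rvec] at hmf
        exact vec_ne_of_vdiff hd hmf
      · exact absurd e hm6
      · exact (adj_iff (fIdx_lt 6) hm).1 e
    rw [adj_iff hk hl]
    have hd := dot_map hx (rvv (fIdx 6)) (rvv m)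
    rw [(adj_iff (fIdx_lt 6) hm).1 hadj] at hd
    obtain ⟨l', hl', el', evl'⟩ := exists_conj_Rf hx hm
    have : l' = l := (Rf_inj_comm hl' hl).1 (el'.symm.trans hback)
    subst this
    rcases ev with a | a <;> rcases evl' with b | b <;> rw [a, b] at hd <;> simpa using hd
  rw [hk6, ← fr_eq] at ek
  exact (mul_inv_eq_iff_eq_mul.1 ek).symm

theorem k_P_closed : ∀ x ∈ H6.O8.Kc H6.O8.rP, ∀ y ∈ H6.O8.Kc H6.O8.rP,
    H6.O8.Two x → H6.O8.Two y → H6.O8.Two (x * y) := by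
  intro x hx y hy hx2 hy2
  obtain ⟨D, hD⟩ : ∃ D, D = H6.O8.rP * H6.O8.fr 6 := ⟨_, rfl⟩
  have hle : H6.O8.Kc H6.O8.rP ≤ H6.O8.Kc D := by
    refine (Subgroup.closure_le _).2 fun z hz => Subgroup.subset_closure ?_
    exact ⟨hz.1, by rw [hD]; exact hz.2.1.mul_left (comm_fr_six (H48.O8Std.MM_M hz.1) hz.2.1), hz.2.2⟩
  have hDv : (D : Matrix (Fin 8) (Fin 8) (ZMod 3)) = toM (rmul pRows (refRows (root (fIdx 6)))) := by
    rw [hD, Units.val_mul, rP_val, fr_eq, Rf_val (fIdx_lt 6), ← toM_rmul]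
  have hDM : D ∈ H6.O8.MM := by
    rw [MM_eq, hD, H6.O8.rP, fr_eq, fr_eq, fr_eq, fr_eq, mul_assoc (Rf (fIdx 0) * Rf (fIdx 2))]
    exact mul_mem (Rf_pair_mem (fIdx_lt 0) (fIdx_lt 2)) (Rf_pair_mem (fIdx_lt 4) (fIdx_lt 6))
  have hchk : rmul (rmul pRows (refRows (root (fIdx 6)))) (rmul pRows (refRows (root (fIdx 6)))) = rsc 1 ∧
      ((List.range 120).filter fun k =>
        rvec (rmul pRows (refRows (root (fIdx 6)))) (root k) == rsmul 2 (root k)).length = 12 := by
    decide +kernel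
  have hDD : D * D = 1 := Units.ext (by
    rw [Units.val_mul, hDv, ← toM_rmul, hchk.1, toM_one, Units.val_one])
  obtain ⟨m, hm, e⟩ := (H48.O8Std.inner_by_count hDM hDD).2
    (by rw [H48.O8Std.negLines_card_of_val hDv, hchk.2])
  have kx := H48.O8Std.Kc_conj hm (hle hx)
  have ky := H48.O8Std.Kc_conj hm (hle hy)
  rw [e] at kx ky
  have key := H48.O8Std.D_closed _ kx _ ky (H48.O8Std.Two.conj hx2) (H48.O8Std.Two.conj hy2)
  rw [conj_mul] at key
  have := H48.O8Std.Two.conj (m := m⁻¹) key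
  rwa [show m⁻¹ * (m * (x * y) * m⁻¹) * m⁻¹⁻¹ = x * y by group] at this

theorem k_P_wit : ∃ q ∈ H6.O8.Kc H6.O8.rP, H6.O8.Two q ∧ q ≠ 1 ∧
    ∃ m ∈ H6.O8.MM, m * H6.O8.rP * m⁻¹ = H6.O8.rP * q := by
  have hv : ((H6.O8.rP : H6.O8.GG) : Matrix (Fin 8) (Fin 8) (ZMod 3)) =
      toM (H48.O8Std.mrows (H48.O8Std.classReps.getD 8 [])) :=
    H48.O8Std.rep_P ▸ (H48.O8Std.repGG_props (r := 8) (by norm_num)).2
  obtain ⟨q, hq, hqv⟩ := H48.O8Std.wits_mem (q := [1, 3, 4, 6, 9, 11, 12, 14])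
    (ws := [[6, 20, 28, 38], [2, 16, 28, 38, 0, 1, 44, 45]]) hv (by decide +kernel)
  have hchk : (let Q := H48.O8Std.mrows [1, 3, 4, 6, 9, 11, 12, 14]
      let P := H48.O8Std.mrows (H48.O8Std.classReps.getD 8 [])
      rmul Q Q = rsc 1 ∧ rdiff Q (rsc 1) = true ∧ rmul (rmul P Q) (rmul P Q) = rsc 1 ∧
      ((List.range 120).filter fun k => rvec (rmul P Q) (root k) == rsmul 2 (root k)).length = 3) := by
    decide +kernel
  obtain ⟨h1, h2, h3, h4⟩ := hchk
  have hqM : q ∈ H6.O8.MM := H48.O8Std.Kc_le_MM hq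
  have hPq : ((H6.O8.rP * q : H6.O8.GG) : Matrix (Fin 8) (Fin 8) (ZMod 3)) =
      toM (rmul (H48.O8Std.mrows (H48.O8Std.classReps.getD 8 []))
        (H48.O8Std.mrows [1, 3, 4, 6, 9, 11, 12, 14])) := by
    rw [Units.val_mul, hv, hqv, ← toM_rmul]
  have hPW : H6.O8.rP ∈ H6.O8.WW ∧ H6.O8.rP ∉ H6.O8.MM := by
    have hm : H6.O8.fr 2 * H6.O8.fr 4 ∈ H6.O8.MM := by
      rw [MM_eq, fr_eq, fr_eq]; exact Rf_pair_mem (fIdx_lt 2) (fIdx_lt 4)
    have hr : H6.O8.fr 0 ∈ H6.O8.WW := mem_sup_right (mem_zpowers H6.O8.rR)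
    rw [H6.O8.rP, mul_assoc]
    exact ⟨mul_mem hr (mem_sup_left hm), fun h => outer_not_mem ((mul_mem_cancel_right hm).1 h)⟩
  have hin : H6.O8.rP * q ∈ H6.O8.WW := mul_mem hPW.1 (mem_sup_left hqM)
  obtain ⟨m, hm, e⟩ := H48.O8Std.outer_by_count hin (fun h => hPW.2 ((mul_mem_cancel_right hqM).1 h))
    (Units.ext (by rw [Units.val_mul, hPq, ← toM_rmul, h3, toM_one, Units.val_one]))
    (by rw [H48.O8Std.negLines_card_of_val hPq, h4])
  refine ⟨q, hq, ⟨1, Units.ext ?_⟩, fun h => ?_, m⁻¹, inv_mem hm, ?_⟩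
  · rw [show 2 ^ 1 = 2 from rfl, pow_two, Units.val_mul, hqv, ← toM_rmul, h1, toM_one, Units.val_one]
  · rw [h, Units.val_one, ← toM_one] at hqv
    exact toM_ne_of_rdiff h2 hqv.symm
  · calc m⁻¹ * H6.O8.rP * m⁻¹⁻¹ = m⁻¹ * (m * (H6.O8.rP * q) * m⁻¹) * m⁻¹⁻¹ := by rw [e]
      _ = H6.O8.rP * q := by group

end H20.O8Cover
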