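import Cfsg.Agent.H20.O8Cover.Model
import Cfsg.Agent.H76.D4TwoMultiplier
import Cfsg.Agent.H53.GraphTables

/-!
The model covers D₄ over two elements; double covers are determined by their three commutator
values, and the diagram symmetry of order three permutes these values.
-/

set_option autoImplicit false
set_option linter.unusedSectionVars false
set_option maxRecDepth 100000

namespace H20.O8Cover

open Cfsg.Lie Subgroup H76.Exc
open scoped commutatorElement

universe u

/-- A stem extension with kernel of order two. -/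
def IsDoubleCover {Γ G : Type*} [Group Γ] [Group G] (σ : Γ →* G) : Prop :=
  Function.Surjective σ ∧ σ.ker ≤ center Γ ∧ commutator Γ = ⊤ ∧ Nat.card σ.ker = 2

/-- The root elements of D₄ over two elements. -/
noncomputable def x1 (F : Type*) [Field F] (r : ℕ) : ↥(chevD4.group F) := xg ctxD4 r (1 : F)

variable {F : Type u} [Field F] [Fintype F] (h2 : Fintype.card F = 2)
include h2

theorem one_add_one : (1 : F) + 1 = 0 := by
  nth_rewrite 1 [← neg_one_eq h2]
  exact neg_add_cancel 1

theorem eq_top_of_roots {H : Subgroup ↥(chevD4.group F)}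
    (h : ∀ r < 24, x1 F r ∈ H) : H = ⊤ := by
  have hle : chevD4.group F ≤ H.map (chevD4.group F).subtype := by
    refine (closure_le _).2 ?_
    rintro g ⟨r, t, hg⟩
    have hg' : g = H52.rt chevD4 r.val t := Units.ext (by
      rw [ctxD4.hC.coe_rt, hg, ChevalleyDatum.x, dif_pos r.isLt])
    refine ⟨xg ctxD4 r.val t, ?_, hg'.symm⟩
    by_cases ht : t = 0
    · subst ht; rw [xg_zero]; exact one_mem _
    · rw [eq_one_of_ne_zero h2 ht]; exact h r.val r.isLt
  rw [eq_top_iff]
  intro x _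
  obtain ⟨y, hy, e⟩ := hle x.2
  rwa [Subtype.ext (a1 := x) e.symm]

theorem group_simple_two : IsSimpleGroup ↥(chevD4.group F) :=
  (H52.group_simple (by simp) (by
    rintro (h | h) <;> exact absurd (congrArg ChevalleyDatum.nroots h) (by decide))).1

theorem group_perfect_two : commutator ↥(chevD4.group F) = ⊤ :=
  H52.group_perfect (by simp) (by
    rintro (h | h) <;> exact absurd (congrArg ChevalleyDatum.nroots h) (by decide))

theorem exists_embedding : ∃ f : ↥(chevD4.group F) →* GL (Fin 8) (ZMod 3) ⧸ center _,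
    Function.Injective f ∧ ∀ r < 24, f (x1 F r) = QuotientGroup.mk (gen r) := by
  obtain ⟨f, hf⟩ := exists_liftHom liftRelA h2
  refine ⟨f, ?_, fun r hr => hf r hr⟩
  rw [← MonoidHom.ker_eq_bot_iff]
  refine ((group_simple_two h2).eq_bot_or_eq_top_of_normal f.ker inferInstance).resolve_right fun h' => ?_
  have h23 : x1 F 23 ∈ f.ker := h' ▸ mem_top _
  rw [x1, MonoidHom.mem_ker, hf 23 (by norm_num), rcl, QuotientGroup.eq_one_iff] at h23
  apply neg_one_ne_one
  rw [← comm_eleven, commutatorElement_eq_one_iff_commute]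
  exact (mem_center_iff.1 h23 (gen 11)).symm

/-- The projection of the model. -/
theorem exists_proj : ∃ π : ↥M →* ↥(chevD4.group F), Function.Surjective π ∧
    (∀ r, ∀ hr : r < 24, π ⟨gen r, gen_mem hr⟩ = x1 F r) ∧
    ∀ x : ↥M, π x = 1 ↔ ((x : GL (Fin 8) (ZMod 3)) = 1 ∨ (x : GL (Fin 8) (ZMod 3)) = -1) := by
  obtain ⟨f, hinj, hf⟩ := exists_embedding h2
  have hle : ∀ x ∈ M, (QuotientGroup.mk x : GL (Fin 8) (ZMod 3) ⧸ center _) ∈ f.range := by
    intro x hx
    have : M ≤ f.range.comap (QuotientGroup.mk' _) := by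
      refine (closure_le _).2 ?_
      rintro _ ⟨r, hr, rfl⟩
      exact ⟨x1 F r, hf r hr⟩
    exact this hx
  let q : ↥M →* f.range := ((QuotientGroup.mk' _).comp M.subtype).codRestrict _ fun x => hle x x.2
  let π : ↥M →* ↥(chevD4.group F) := (MonoidHom.ofInjective hinj).symm.toMonoidHom.comp q
  have hπ : ∀ x : ↥M, f (π x) = QuotientGroup.mk (x : GL (Fin 8) (ZMod 3)) := by
    intro x
    have := congrArg Subtype.val ((MonoidHom.ofInjective hinj).apply_symm_apply (q x))
    rwa [MonoidHom.ofInjective_apply] at this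
  have hgen : ∀ r, ∀ hr : r < 24, π ⟨gen r, gen_mem hr⟩ = x1 F r :=
    fun r hr => hinj ((hπ _).trans (hf r hr).symm)
  refine ⟨π, ?_, hgen, fun x => ?_⟩
  · rw [← MonoidHom.range_eq_top]
    exact eq_top_of_roots h2 fun r hr => ⟨_, hgen r hr⟩
  · constructor
    · intro h
      have := hπ x
      rw [h, map_one, eq_comm, QuotientGroup.eq_one_iff] at this
      exact center_eq_pm h2 this
    · intro h
      refine hinj ?_
      rw [hπ, map_one, QuotientGroup.eq_one_iff]
      rcases h with h | h <;> rw [h]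
      · exact one_mem _
      · exact mem_center_iff.2 fun g => by simp

theorem proj_doubleCover {π : ↥M →* ↥(chevD4.group F)} (hs : Function.Surjective π)
    (hk : ∀ x : ↥M, π x = 1 ↔ ((x : GL (Fin 8) (ZMod 3)) = 1 ∨ (x : GL (Fin 8) (ZMod 3)) = -1)) :
    IsDoubleCover π := by
  refine ⟨hs, fun x hx => mem_center_iff.2 fun g => Subtype.ext ?_, commutator_eq_top, ?_⟩
  · rcases (hk x).1 hx with h | h <;> simp [h]
  · rw [Nat.card_eq_two_iff]
    refine ⟨1, ⟨⟨-1, neg_one_mem⟩, (hk _).2 (Or.inr rfl)⟩, fun e =>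
      neg_one_ne_one (congrArg (fun x : π.ker => ((x : ↥M) : GL (Fin 8) (ZMod 3))) e).symm, ?_⟩
    refine Set.eq_univ_iff_forall.2 fun x => ?_
    rcases (hk x.1).1 x.2 with h | h
    · exact Or.inl (Subtype.ext (Subtype.ext h))
    · exact Or.inr (Subtype.ext (Subtype.ext h))

omit [Fintype F] h2 in
theorem perfect_map_surjective {P Γ : Type*} [Group P] [Group Γ] {σ : Γ →* ↥(chevD4.group F)}
    (hσ : σ.ker ≤ center Γ) (hperf : commutator Γ = ⊤) {p : P →* Γ}
    (hp : Function.Surjective (σ.comp p)) : Function.Surjective p := by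
  rw [← MonoidHom.range_eq_top, eq_top_iff, ← hperf]
  refine Subgroup.commutator_le.2 fun a _ b _ => ?_
  obtain ⟨a', ha⟩ := hp (σ a)
  obtain ⟨b', hb⟩ := hp (σ b)
  rw [H76.Cover.comm_congr σ hσ (x' := p a') (y' := p b') ha.symm hb.symm, ← map_commutatorElement]
  exact ⟨_, rfl⟩

/-- Two double covers with the same commutator values are isomorphic. -/
theorem iso_of_kinds {Γ₁ Γ₂ : Type u} [Group Γ₁] [Group Γ₂] {σ₁ : Γ₁ →* ↥(chevD4.group F)}
    {σ₂ : Γ₂ →* ↥(chevD4.group F)} (h₁ : IsDoubleCover σ₁) (h₂ : IsDoubleCover σ₂)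
    (a5 : rootComm h₁.1 23 5 = 1) (b5 : rootComm h₂.1 23 5 = 1)
    (a11 : rootComm h₁.1 23 11 ≠ 1) (b11 : rootComm h₂.1 23 11 ≠ 1) :
    Nonempty (Γ₁ ≃* Γ₂) := by
  classical
  obtain ⟨-, -, -, -, -, -, -, -, -, hc5, hc11, hc10, -⟩ := d4Facts
  obtain ⟨s₁, k₁, p₁, c₁⟩ := h₁
  obtain ⟨s₂, k₂, p₂, c₂⟩ := h₂
  let P : Subgroup (Γ₁ × Γ₂) :=
    (σ₁.comp (MonoidHom.fst _ _)).eqLocus (σ₂.comp (MonoidHom.snd _ _))
  let π₀ : P →* ↥(chevD4.group F) := σ₁.comp ((MonoidHom.fst _ _).comp P.subtype)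
  have h₀s : Function.Surjective π₀ := fun x => by
    obtain ⟨a, ha⟩ := s₁ x
    obtain ⟨b, hb⟩ := s₂ x
    exact ⟨⟨(a, b), ha.trans hb.symm⟩, ha⟩
  have h₀c : π₀.ker ≤ center P := by
    rintro ⟨⟨a, b⟩, hab⟩ ha
    have ha' : σ₁ a = 1 := ha
    have hb' : σ₂ b = 1 := (show σ₁ a = σ₂ b from hab).symm.trans ha'
    exact mem_center_iff.2 fun g => Subtype.ext (Prod.ext (mem_center_iff.1 (k₁ ha') _)
      (mem_center_iff.1 (k₂ hb') _))
  let π : ↥(commutator P) →* ↥(chevD4.group F) := π₀.comp (commutator P).subtype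
  have hs : Function.Surjective π := fun x => by
    have hx : x ∈ (commutator P).map π₀ := by
      rw [map_commutator_eq, MonoidHom.range_eq_top.2 h₀s, ← _root_.commutator_def,
        group_perfect_two h2]
      exact mem_top _
    obtain ⟨y, hy, rfl⟩ := hx
    exact ⟨⟨y, hy⟩, rfl⟩
  have hc : π.ker ≤ center ↥(commutator P) := fun z hz =>
    mem_center_iff.2 fun g => Subtype.ext (mem_center_iff.1 (h₀c hz) g)
  have hstem : π.ker ≤ commutator ↥(commutator P) := by
    refine le_trans le_top (le_of_eq (Eq.symm ?_))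
    apply Subgroup.map_injective (commutator P).subtype_injective
    rw [Subgroup.map_subtype_commutator, ← MonoidHom.range_eq_map, Subgroup.range_subtype]
    apply le_antisymm (commutator P).commutator_le_self
    refine Subgroup.commutator_le.2 fun a _ b _ => ?_
    obtain ⟨a', ha'⟩ := hs (π₀ a)
    obtain ⟨b', hb'⟩ := hs (π₀ b)
    rw [H76.Cover.comm_congr π₀ h₀c (x' := (a' : P)) (y' := (b' : P)) ha'.symm hb'.symm]
    exact commutator_mem_commutator a'.2 b'.2
  let q₁ : ↥(commutator P) →* Γ₁ :=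
    (MonoidHom.fst _ _).comp (P.subtype.comp (commutator P).subtype)
  let q₂ : ↥(commutator P) →* Γ₂ :=
    (MonoidHom.snd _ _).comp (P.subtype.comp (commutator P).subtype)
  have hq₁ : ∀ y, σ₁ (q₁ y) = π y := fun y => rfl
  have hq₂ : ∀ y, σ₂ (q₂ y) = π y := fun y => (y : P).2.symm
  have hval : ∀ s, s < 24 → commOK chevD4 23 s = true →
      q₁ (rootComm hs 23 s) = rootComm s₁ 23 s ∧ q₂ (rootComm hs 23 s) = rootComm s₂ 23 s := by
    intro s _ _
    constructor <;> rw [rootComm, map_commutatorElement]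
    · exact rootComm_eq s₁ k₁ ((hq₁ _).trans (Function.surjInv_eq hs _))
        ((hq₁ _).trans (Function.surjInv_eq hs _))
    · exact rootComm_eq s₂ k₂ ((hq₂ _).trans (Function.surjInv_eq hs _))
        ((hq₂ _).trans (Function.surjInv_eq hs _))
  obtain ⟨e5₁, e5₂⟩ := hval 5 (by norm_num) hc5
  obtain ⟨e11₁, e11₂⟩ := hval 11 (by norm_num) hc11
  have k5 : rootComm hs 23 5 = 1 := Subtype.ext (Subtype.ext (Prod.ext (e5₁.trans a5) (e5₂.trans b5)))
  have hk : π.ker ≤ zpowers (rootComm hs 23 11) := by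
    refine le_trans (ker_le_kind h2 hs hc hstem) ((closure_le _).2 ?_)
    rintro _ (rfl | rfl | rfl)
    · rw [k5]; exact one_mem _
    · exact mem_zpowers _
    · rw [kind_rel h2 hs hc hstem, k5, one_mul]; exact mem_zpowers _
  have two : ∀ {Γ : Type u} [Group Γ] {σ : Γ →* ↥(chevD4.group F)} (s : Function.Surjective σ)
      (k : σ.ker ≤ center Γ), rootComm s 23 11 ≠ 1 → orderOf (rootComm s 23 11) = 2 :=
    fun s k h => orderOf_eq_prime (by rw [pow_two]; exact rootComm_sq s k h2 (by norm_num) (by norm_num) hc11) h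
  have hker : ∀ y : ↥(commutator P), π y = 1 → (q₁ y = 1 ↔ q₂ y = 1) := by
    intro y hy
    obtain ⟨n, rfl⟩ := hk hy
    simp only [map_zpow, e11₁, e11₂]
    rw [← orderOf_dvd_iff_zpow_eq_one, ← orderOf_dvd_iff_zpow_eq_one, two s₁ k₁ a11, two s₂ k₂ b11]
  have i₁ : Function.Injective q₁ := by
    rw [injective_iff_map_eq_one]
    intro y hy
    have hπ : π y = 1 := by rw [← hq₁, hy, map_one]
    exact Subtype.ext (Subtype.ext (Prod.ext hy ((hker y hπ).1 hy)))
  have i₂ : Function.Injective q₂ := by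
    rw [injective_iff_map_eq_one]
    intro y hy
    have hπ : π y = 1 := by rw [← hq₂, hy, map_one]
    exact Subtype.ext (Subtype.ext (Prod.ext ((hker y hπ).2 hy) hy))
  have j₁ : Function.Surjective q₁ := perfect_map_surjective k₁ p₁ (fun x => (hs x).imp fun y e => (hq₁ y).trans e)
  have j₂ : Function.Surjective q₂ := perfect_map_surjective k₂ p₂ (fun x => (hs x).imp fun y e => (hq₂ y).trans e)
  exact ⟨(MulEquiv.ofBijective q₁ ⟨i₁, j₁⟩).symm.trans (MulEquiv.ofBijective q₂ ⟨i₂, j₂⟩)⟩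

omit [Fintype F] h2 in
theorem triData : H53.d4Sym.qn 23 = 23 ∧ H53.d4Sym.qn 5 = 10 ∧ H53.d4Sym.qn 10 = 11 ∧
    H53.d4Sym.qn 11 = 5 := by decide +kernel

/-- The symmetry of order three. -/
theorem exists_triality : ∃ τ : ↥(chevD4.group F) ≃* ↥(chevD4.group F),
    τ (x1 F 23) = x1 F 23 ∧ τ (x1 F 5) = x1 F 10 ∧ τ (x1 F 10) = x1 F 11 ∧ τ (x1 F 11) = x1 F 5 := by
  let τ := H53.BasisSym.aut F H53.d4Sym H53.d4Sym_valid
  have h : ∀ r, r < 24 → τ (x1 F r) = x1 F (H53.d4Sym.qn r) := by
    intro r hr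
    have hne : ((H53.d4Sym.sn r : ℤ) : F) ≠ 0 := by
      have e : H53.d4Sym.sn r * H53.d4Sym.sn r = 1 := by
        rw [H53.BasisSym.sn, dif_pos (show r < chevD4.nroots from hr)]
        exact H53.d4Sym_valid.sgn_sq _
      intro h0
      have := congrArg (fun z : ℤ => (z : F)) e
      simp [h0] at this
    refine Subtype.ext (Units.ext ?_)
    show (((τ (xg ctxD4 r 1)) : GL chevD4.Idx F) : Matrix chevD4.Idx chevD4.Idx F) =
      ((xg ctxD4 (H53.d4Sym.qn r) (1 : F) : GL chevD4.Idx F) : Matrix chevD4.Idx chevD4.Idx F)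
    rw [H53.BasisSym.aut_x (g := xg ctxD4 r 1) (r := r) (t := (1 : F)) (hr := hr)
      (hg := ctxD4.hC.coe_rt r 1), mul_one, eq_one_of_ne_zero h2 hne]
    exact (ctxD4.hC.coe_rt _ 1).symm
  obtain ⟨t23, t5, t10, t11⟩ := triData
  exact ⟨τ, by rw [h 23 (by norm_num), t23], by rw [h 5 (by norm_num), t5],
    by rw [h 10 (by norm_num), t10], by rw [h 11 (by norm_num), t11]⟩

/-- Any double cover has, after a diagram symmetry, the commutator values of the model. -/
theorem exists_normalised {Γ : Type u} [Group Γ] {σ : Γ →* ↥(chevD4.group F)} (h : IsDoubleCover σ) :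
    ∃ σ' : Γ →* ↥(chevD4.group F), ∃ h' : IsDoubleCover σ',
      rootComm h'.1 23 5 = 1 ∧ rootComm h'.1 23 11 ≠ 1 := by
  obtain ⟨-, -, -, -, -, -, -, -, -, hc5, hc11, hc10, -⟩ := d4Facts
  obtain ⟨hs, hc, hp, hcard⟩ := h
  obtain ⟨τ, t23, t5, t10, t11⟩ := exists_triality h2
  have hstem : σ.ker ≤ commutator Γ := hp ▸ le_top
  have hrel := kind_rel h2 hs hc hstem
  have comp : ∀ (e : ↥(chevD4.group F) ≃* ↥(chevD4.group F)),
      IsDoubleCover (e.toMonoidHom.comp σ) := by
    intro e
    have hk : (e.toMonoidHom.comp σ).ker = σ.ker := by ext x; simp [MonoidHom.mem_ker]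
    exact ⟨e.surjective.comp hs, hk ▸ hc, hp, hk ▸ hcard⟩
  have val : ∀ (e : ↥(chevD4.group F) ≃* ↥(chevD4.group F)) (hd : IsDoubleCover (e.toMonoidHom.comp σ)) (s s' : ℕ),
      e (x1 F 23) = x1 F 23 → e (x1 F s') = x1 F s → rootComm hd.1 23 s = rootComm hs 23 s' := by
    intro e hd s s' e23 es
    symm
    refine rootComm_eq hd.1 hd.2.1 ?_ ?_
    · exact (congrArg e (Function.surjInv_eq hs _)).trans e23
    · exact (congrArg e (Function.surjInv_eq hs _)).trans es
  by_cases h5 : rootComm hs 23 5 = 1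
  · by_cases h11 : rootComm hs 23 11 = 1
    · exfalso
      have hbot : σ.ker = ⊥ := by
        rw [eq_bot_iff]
        refine le_trans (ker_le_kind h2 hs hc hstem) ((closure_le _).2 ?_)
        rintro _ (rfl | rfl | rfl)
        · exact h5
        · exact h11
        · show rootComm hs 23 10 = 1
          rw [hrel, h5, h11, one_mul]
      rw [hbot, card_bot] at hcard
      norm_num at hcard
    · exact ⟨σ, ⟨hs, hc, hp, hcard⟩, h5, h11⟩
  · by_cases h11 : rootComm hs 23 11 = 1
    · have hd := comp τ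
      refine ⟨_, hd, ?_, ?_⟩
      · rw [val τ hd 5 11 t23 t11]; exact h11
      · rw [val τ hd 11 10 t23 t10, hrel, h11, mul_one]; exact h5
    · have hd := comp (τ.trans τ)
      have w23 : (τ.trans τ) (x1 F 23) = x1 F 23 := by simp [t23]
      have w10 : (τ.trans τ) (x1 F 10) = x1 F 5 := by simp [t10, t11]
      have w5 : (τ.trans τ) (x1 F 5) = x1 F 11 := by simp [t5, t10]
      refine ⟨_, hd, ?_, ?_⟩
      · rw [val _ hd 5 10 w23 w10, hrel]
        have k5m : rootComm hs 23 5 ∈ σ.ker := by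
          rw [MonoidHom.mem_ker, rootComm, map_commutatorElement, Function.surjInv_eq hs,
            Function.surjInv_eq hs, commutatorElement_eq_one_iff_commute]
          exact commOK_spec ctxD4 (by decide) (by decide) hc5 1 1
        have k11m : rootComm hs 23 11 ∈ σ.ker := by
          rw [MonoidHom.mem_ker, rootComm, map_commutatorElement, Function.surjInv_eq hs,
            Function.surjInv_eq hs, commutatorElement_eq_one_iff_commute]
          exact commOK_spec ctxD4 (by decide) (by decide) hc11 1 1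
        obtain ⟨z, -, hz⟩ := (Nat.card_eq_two_iff' (1 : σ.ker)).1 hcard
        have e5 : (⟨_, k5m⟩ : σ.ker) = z := hz _ (fun e => h5 (congrArg Subtype.val e))
        have e11 : (⟨_, k11m⟩ : σ.ker) = z := hz _ (fun e => h11 (congrArg Subtype.val e))
        rw [show rootComm hs 23 11 = rootComm hs 23 5 from congrArg Subtype.val (e11.trans e5.symm)]
        exact rootComm_sq hs hc h2 (by norm_num) (by norm_num) hc5
      · rw [val _ hd 11 5 w23 w5]; exact h5

end H20.O8Cover
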