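import Cfsg.Agent.H76.D4TwoCover

/-!
The double cover of the orthogonal group O₈⁺(2) inside the Weyl group of type E₈, as matrices
modulo three, and a reflection normalising it.
-/

set_option autoImplicit false
set_option maxRecDepth 100000

namespace H20.O8Cover

open Cfsg.Lie Subgroup H76.Exc
open scoped commutatorElement

/-- The lift of the `r`-th root element. -/
def gen (r : ℕ) : GL (Fin 8) (ZMod 3) := rgl d4LiftA r

/-- The double cover. -/
def M : Subgroup (GL (Fin 8) (ZMod 3)) := closure (gen '' {r | r < 24})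

theorem gen_mem {r : ℕ} (hr : r < 24) : gen r ∈ M := subset_closure ⟨r, hr, rfl⟩

theorem gen_sq {r : ℕ} (hr : r < 24) : gen r * gen r = 1 := rgl_sq liftRelA hr

theorem gen_inv {r : ℕ} (hr : r < 24) : (gen r)⁻¹ = gen r := rgl_inv liftRelA hr

theorem gen_val {r : ℕ} (hr : r < 24) :
    ((gen r : GL (Fin 8) (ZMod 3)) : Matrix (Fin 8) (Fin 8) (ZMod 3)) = toM (d4LiftA.getD r []) :=
  rgl_val liftRelA hr

theorem gen_comm_val {r s : ℕ} (hr : r < 24) (hs : s < 24) :
    ((⁅gen r, gen s⁆ : GL (Fin 8) (ZMod 3)) : Matrix (Fin 8) (Fin 8) (ZMod 3)) =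
      toM (rwd d4LiftA [r, s, r, s]) := by
  rw [← rwd_val liftRelA [r, s, r, s] (by simp [hr, hs]), commutatorElement_def, gen_inv hr,
    gen_inv hs]
  simp [gen, mul_assoc]

theorem signFacts : rwd d4LiftA [23, 5, 23, 5] = rsc 1 ∧ rwd d4LiftA [23, 11, 23, 11] = rsc 2 ∧
    rwd d4LiftA [23, 10, 23, 10] = rsc 2 := by decide +kernel

theorem comm_five : ⁅gen 23, gen 5⁆ = 1 := Units.ext <| by
  rw [gen_comm_val (by norm_num) (by norm_num), signFacts.1, toM_one, Units.val_one]

theorem comm_eleven : ⁅gen 23, gen 11⁆ = -1 := Units.ext <| by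
  rw [gen_comm_val (by norm_num) (by norm_num), signFacts.2.1, toM_two, Units.val_neg, Units.val_one]

theorem comm_ten : ⁅gen 23, gen 10⁆ = -1 := Units.ext <| by
  rw [gen_comm_val (by norm_num) (by norm_num), signFacts.2.2, toM_two, Units.val_neg, Units.val_one]

theorem neg_one_ne_one : (-1 : GL (Fin 8) (ZMod 3)) ≠ 1 := fun e =>
  absurd (congrArg (fun g : GL (Fin 8) (ZMod 3) => (g : Matrix (Fin 8) (Fin 8) (ZMod 3))) e)
    (by decide)

theorem neg_one_mem_commutator : (-1 : GL (Fin 8) (ZMod 3)) ∈ ⁅M, M⁆ := by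
  rw [← comm_eleven]
  exact commutator_mem_commutator (gen_mem (by norm_num)) (gen_mem (by norm_num))

theorem neg_one_mem : (-1 : GL (Fin 8) (ZMod 3)) ∈ M :=
  M.commutator_le_self neg_one_mem_commutator

/-- Every lift is a commutator of two lifts up to sign. -/
def commGenOK : Bool :=
  (List.range 24).all fun k => (List.range 24).any fun r => (List.range 24).any fun s =>
    match chevD4.commTerms r s with
    | [(k', _, _, _)] => k' == k && rEqPM (rwd d4LiftA [r, s, r, s]) (d4LiftA.getD k [])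
    | _ => false

theorem commGen : commGenOK = true := by decide +kernel

theorem eq_or_neg_of_eqPM {x y : GL (Fin 8) (ZMod 3)} {A B : List (List ℕ)}
    (hx : (x : Matrix (Fin 8) (Fin 8) (ZMod 3)) = toM A)
    (hy : (y : Matrix (Fin 8) (Fin 8) (ZMod 3)) = toM B) (h : rEqPM A B = true) :
    x = y ∨ x = -1 * y := by
  simp only [rEqPM, Bool.or_eq_true, beq_iff_eq] at h
  rcases h with h | h
  · exact Or.inl (Units.ext (by rw [hx, hy, h]))
  · refine Or.inr (Units.ext ?_)
    rw [Units.val_mul, Units.val_neg, Units.val_one, hx, hy, h, toM_rmul, toM_two]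

theorem M_perfect : ⁅M, M⁆ = M := by
  refine le_antisymm M.commutator_le_self ((closure_le _).2 ?_)
  rintro _ ⟨k, hk, rfl⟩
  have h := commGen
  simp only [commGenOK, List.all_eq_true, List.mem_range, List.any_eq_true] at h
  obtain ⟨r, hr, s, hs, h⟩ := h k hk
  split at h
  · rename_i k' c i j heq
    simp only [Bool.and_eq_true, beq_iff_eq] at h
    have hm : ⁅gen r, gen s⁆ ∈ ⁅M, M⁆ := commutator_mem_commutator (gen_mem hr) (gen_mem hs)
    rcases eq_or_neg_of_eqPM (gen_comm_val hr hs) (gen_val hk) h.2 with e | e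
    · rwa [e] at hm
    · have := mul_mem neg_one_mem_commutator hm
      rwa [e, ← mul_assoc, neg_mul_neg, one_mul, one_mul] at this
  · exact absurd h Bool.false_ne_true

theorem commutator_eq_top : commutator ↥M = ⊤ := by
  apply Subgroup.map_injective M.subtype_injective
  rw [Subgroup.map_subtype_commutator, ← MonoidHom.range_eq_map, Subgroup.range_subtype]
  exact M_perfect

theorem det_eq_one {x : GL (Fin 8) (ZMod 3)} (hx : x ∈ M) :
    (x : Matrix (Fin 8) (Fin 8) (ZMod 3)).det = 1 := by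
  let f : ↥M →* (ZMod 3)ˣ := Matrix.GeneralLinearGroup.det.comp M.subtype
  have h : commutator ↥M ≤ f.ker := Abelianization.commutator_subset_ker f
  rw [commutator_eq_top] at h
  have h' : f ⟨x, hx⟩ = 1 := MonoidHom.mem_ker.1 (h (mem_top (⟨x, hx⟩ : ↥M)))
  rw [← Matrix.GeneralLinearGroup.val_det_apply, show Matrix.GeneralLinearGroup.det x = 1 from h', Units.val_one]

/-- Entries used for the centraliser: three diagonal lifts separating coordinates, and monomial
lifts joining the first coordinate to the others. -/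
def scalarOK : Bool :=
  (List.range 8).all (fun i => (List.range 8).all fun j => (i == j) ||
    [[14, 19], [14, 23], [10, 15, 20]].any fun w =>
      (((rwd d4LiftA w).getD i []).getD i 0 != ((rwd d4LiftA w).getD j []).getD j 0)) &&
  [[14, 19], [14, 23], [10, 15, 20]].all (fun w => (List.range 8).all fun i =>
    (List.range 8).all fun j => (decide (((rwd d4LiftA w).getD i []).getD j 0 < 3)) &&
      ((i == j) || (((rwd d4LiftA w).getD i []).getD j 0 == 0))) &&
  (List.range 8).all (fun j => (j == 0) || [10, 11, 14, 15, 16, 20, 21].any fun r =>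
    ((d4LiftA.getD r []).getD 0 []).getD j 0 != 0 && decide (((d4LiftA.getD r []).getD 0 []).getD j 0 < 3))

theorem scalarCert : scalarOK = true := by decide +kernel

theorem natCast_ne {a b : ℕ} (ha : a < 3) (hb : b < 3) (h : a ≠ b) :
    (a : ZMod 3) ≠ (b : ZMod 3) := by
  intro e
  rw [ZMod.natCast_eq_natCast_iff', Nat.mod_eq_of_lt ha, Nat.mod_eq_of_lt hb] at e
  exact h e

/-- Only scalars commute with the double cover. -/
theorem eq_one_or_neg_of_commute {x : GL (Fin 8) (ZMod 3)}
    (hx : ∀ m ∈ M, m * x = x * m) : x = 1 ∨ x = -1 := by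
  have h := scalarCert
  simp only [scalarOK, Bool.and_eq_true, List.all_eq_true, List.mem_range, List.any_eq_true,
    Bool.or_eq_true, beq_iff_eq, bne_iff_ne, decide_eq_true_eq] at h
  obtain ⟨⟨hsep, hdia⟩, hjoin⟩ := h
  set X : Matrix (Fin 8) (Fin 8) (ZMod 3) := (x : Matrix (Fin 8) (Fin 8) (ZMod 3)) with hX
  have hw : ∀ w : List ℕ, (∀ r ∈ w, r < 24) → toM (rwd d4LiftA w) * X = X * toM (rwd d4LiftA w) := by
    intro w hw
    rw [← rwd_val liftRelA w hw, hX, ← Units.val_mul, ← Units.val_mul, hx]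
    exact list_prod_mem fun y hy => by
      obtain ⟨r, hr, rfl⟩ := List.mem_map.1 hy
      exact gen_mem (hw r hr)
  have hoff : ∀ i j : Fin 8, i ≠ j → X i j = 0 := by
    intro i j hij
    obtain ⟨w, hwm, hne⟩ := (hsep i.val i.isLt j.val j.isLt).resolve_left
      (fun e => hij (Fin.ext e))
    have hwlt : ∀ r ∈ w, r < 24 := by
      simp only [List.mem_cons, List.not_mem_nil, or_false] at hwm
      rcases hwm with rfl | rfl | rfl <;> simp
    have hd := hdia w hwm
    have e := congrFun (congrFun (hw w hwlt) i) j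
    rw [Matrix.mul_apply, Matrix.mul_apply, Finset.sum_eq_single i, Finset.sum_eq_single j] at e
    · simp only [toM, Matrix.of_apply] at e
      rw [mul_comm (X i j)] at e
      by_contra h0
      exact natCast_ne (hd i.val i.isLt i.val i.isLt).1 (hd j.val j.isLt j.val j.isLt).1 hne
        (mul_right_cancel₀ h0 e)
    · intro k _ hk
      simp only [toM, Matrix.of_apply]
      rw [(hd k.val k.isLt j.val j.isLt).2.resolve_left (fun e => hk (Fin.ext e)), Nat.cast_zero,
        mul_zero]
    · simp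
    · intro k _ hk
      simp only [toM, Matrix.of_apply]
      rw [(hd i.val i.isLt k.val k.isLt).2.resolve_left (fun e => hk (Fin.ext e.symm)), Nat.cast_zero,
        zero_mul]
    · simp
  have hdiag : ∀ j : Fin 8, X j j = X 0 0 := by
    intro j
    by_cases hj : j.val = 0
    · rw [show j = 0 from Fin.ext hj]
    obtain ⟨r, hrm, hne, hlt⟩ := (hjoin j.val j.isLt).resolve_left hj
    have hr : r < 24 := by
      simp only [List.mem_cons, List.not_mem_nil, or_false] at hrm
      omega
    have e0 := congrArg Units.val (hx _ (gen_mem hr))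
    rw [Units.val_mul, Units.val_mul, gen_val hr, ← hX] at e0
    have e := congrFun (congrFun e0 (0 : Fin 8)) j
    rw [Matrix.mul_apply, Matrix.mul_apply,
      Finset.sum_eq_single j, Finset.sum_eq_single (0 : Fin 8)] at e
    · rw [mul_comm (X 0 0)] at e
      refine mul_left_cancel₀ ?_ e
      simp only [toM, Matrix.of_apply]
      exact natCast_ne hlt (by norm_num : 0 < 3) hne |>.trans_eq Nat.cast_zero
    · intro k _ hk; rw [hoff 0 k (Ne.symm hk), zero_mul]
    · simp
    · intro k _ hk; rw [hoff k j hk, mul_zero]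
    · simp
  have hX0 : X = X 0 0 • (1 : Matrix (Fin 8) (Fin 8) (ZMod 3)) := by
    ext i j
    rw [Matrix.smul_apply, Matrix.one_apply, smul_eq_mul]
    by_cases hij : i = j
    · subst hij; rw [if_pos rfl, mul_one, hdiag]
    · rw [if_neg hij, mul_zero, hoff i j hij]
  rcases (by decide : ∀ a : ZMod 3, a = 0 ∨ a = 1 ∨ a = -1) (X 0 0) with h0 | h1 | h1
  · exfalso
    rw [h0, zero_smul] at hX0
    have := congrArg (fun Y => Y * ((x⁻¹ : GL (Fin 8) (ZMod 3)) : Matrix (Fin 8) (Fin 8) (ZMod 3))) hX0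
    simp only [hX, Units.mul_inv, zero_mul] at this
    exact one_ne_zero this
  · exact Or.inl (Units.ext (by rw [Units.val_one, ← hX, hX0, h1, one_smul]))
  · refine Or.inr (Units.ext ?_)
    rw [Units.val_neg, Units.val_one, ← hX, hX0, h1, neg_smul, one_smul]

theorem eq_one_or_neg_of_mem_center {x : ↥M} (hx : x ∈ center ↥M) :
    (x : GL (Fin 8) (ZMod 3)) = 1 ∨ (x : GL (Fin 8) (ZMod 3)) = -1 :=
  eq_one_or_neg_of_commute fun m hm => congrArg Subtype.val (mem_center_iff.1 hx ⟨m, hm⟩)

theorem neg_one_mem_center : (⟨-1, neg_one_mem⟩ : ↥M) ∈ center ↥M :=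
  mem_center_iff.2 fun g => Subtype.ext (by simp)

/-- The permutation of root indices induced by exchanging two end nodes. -/
def swapIdx (r : ℕ) : ℕ :=
  [0, 1, 3, 2, 4, 5, 6, 8, 7, 9, 11, 10, 13, 12, 14, 16, 15, 17, 18, 19, 21, 20, 22, 23].getD r 0

/-- The reflection in the root `e₀ + e₃`, by rows. -/
def reflRows : List (List ℕ) :=
  [[0, 0, 0, 2, 0, 0, 0, 0], [0, 1, 0, 0, 0, 0, 0, 0], [0, 0, 1, 0, 0, 0, 0, 0],
   [2, 0, 0, 0, 0, 0, 0, 0], [0, 0, 0, 0, 1, 0, 0, 0], [0, 0, 0, 0, 0, 1, 0, 0],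
   [0, 0, 0, 0, 0, 0, 1, 0], [0, 0, 0, 0, 0, 0, 0, 1]]

/-- The reflection squares to one and permutes the lifts up to sign. -/
def reflOK : Bool :=
  (rmul reflRows reflRows == rsc 1) && (List.range 24).all fun r => decide (swapIdx r < 24) &&
    rEqPM (rmul (rmul reflRows (d4LiftA.getD r [])) reflRows) (d4LiftA.getD (swapIdx r) [])

theorem reflCert : reflOK = true := by decide +kernel

theorem refl_mul_self : toM reflRows * toM reflRows = 1 := by
  have h := reflCert
  simp only [reflOK, Bool.and_eq_true, beq_iff_eq] at h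
  rw [← toM_rmul, h.1, toM_one]

/-- The reflection in the root `e₀ + e₃`. -/
def g0 : GL (Fin 8) (ZMod 3) := ⟨toM reflRows, toM reflRows, refl_mul_self, refl_mul_self⟩

theorem g0_inv : g0⁻¹ = g0 := Units.ext rfl

theorem g0_sq : g0 * g0 = 1 := Units.ext refl_mul_self

theorem g0_conj {r : ℕ} (hr : r < 24) : swapIdx r < 24 ∧
    (g0 * gen r * g0⁻¹ = gen (swapIdx r) ∨ g0 * gen r * g0⁻¹ = -1 * gen (swapIdx r)) := by
  have h := reflCert
  simp only [reflOK, Bool.and_eq_true, List.all_eq_true, List.mem_range, decide_eq_true_eq] at h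
  obtain ⟨hlt, hpm⟩ := h.2 r hr
  refine ⟨hlt, eq_or_neg_of_eqPM ?_ (gen_val hlt) hpm⟩
  rw [Units.val_mul, Units.val_mul, g0_inv, gen_val hr, toM_rmul, toM_rmul]
  rfl

theorem g0_det : ((g0 : GL (Fin 8) (ZMod 3)) : Matrix (Fin 8) (Fin 8) (ZMod 3)).det = -1 := by
  have e : toM reflRows = (Equiv.swap (0 : Fin 8) 3).permMatrix (ZMod 3) *
      Matrix.diagonal (fun i : Fin 8 => if i = 0 ∨ i = 3 then (2 : ZMod 3) else 1) := by
    decide +kernel
  show (toM reflRows).det = -1
  rw [e, Matrix.det_mul, Matrix.det_permutation, Matrix.det_diagonal, Fin.prod_univ_eight]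
  decide +kernel

theorem g0_normalizes {x : GL (Fin 8) (ZMod 3)} (hx : x ∈ M) : g0 * x * g0⁻¹ ∈ M := by
  have : M ≤ M.comap (MulAut.conj g0).toMonoidHom := by
    refine (closure_le _).2 ?_
    rintro _ ⟨r, hr, rfl⟩
    show g0 * gen r * g0⁻¹ ∈ M
    obtain ⟨hlt, e | e⟩ := g0_conj hr
    · rw [e]; exact gen_mem hlt
    · rw [e]; exact mul_mem neg_one_mem (gen_mem hlt)
  exact this hx

/-- The Weyl group of type E₈. -/
def W : Subgroup (GL (Fin 8) (ZMod 3)) := M ⊔ zpowers g0

theorem M_le_W : M ≤ W := le_sup_left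

theorem g0_mem_W : g0 ∈ W := mem_sup_right (mem_zpowers g0)

theorem W_le_normalizer : W ≤ normalizer (M : Set (GL (Fin 8) (ZMod 3))) := by
  refine sup_le le_normalizer (zpowers_le.2 (mem_normalizer_iff.2 fun x => ⟨g0_normalizes, fun h => ?_⟩))
  have := g0_normalizes h
  rwa [g0_inv, ← mul_assoc, ← mul_assoc, g0_sq, one_mul, mul_assoc, g0_sq, mul_one] at this

theorem g0_ne_pm {m : GL (Fin 8) (ZMod 3)} (hm : m ∈ M) : g0 ≠ m := fun e => by
  have := det_eq_one hm
  rw [← e, g0_det] at this
  exact absurd this (by decide)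

end H20.O8Cover
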