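import Cfsg.Agent.H20.O8Cover.Frame

/-!
The quadruples of the frame: exactly for them the product of four reflections, changed in sign,
has a square root generated by elements of odd order fixing one of the lines.
-/

set_option autoImplicit false
set_option maxRecDepth 100000

namespace H20.O8Cover

open H76.Exc Subgroup

/-- The fourteen quadruples. -/
def quadSet : Finset (Finset (Fin 8)) :=
  {{0, 1, 2, 3}, {0, 1, 4, 5}, {0, 1, 6, 7}, {0, 2, 4, 6}, {0, 2, 5, 7}, {0, 3, 4, 7}, {0, 3, 5, 6},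
   {1, 2, 4, 7}, {1, 2, 5, 6}, {1, 3, 4, 6}, {1, 3, 5, 7}, {2, 3, 4, 5}, {2, 3, 6, 7}, {4, 5, 6, 7}}

theorem quadSet_card : quadSet.card = 14 := by decide +kernel

theorem quadSet_four : ∀ T ∈ quadSet, T.card = 4 := by decide +kernel

theorem quad_through : ∀ a b c : Fin 8, a ≠ b → a ≠ c → b ≠ c →
    ∃ T ∈ quadSet, a ∈ T ∧ b ∈ T ∧ c ∈ T := by decide +kernel

theorem quad_meet : ∀ T ∈ quadSet, ∀ U ∈ quadSet, 3 ≤ (T ∩ U).card → T = U := by decide +kernel

/-- A quadruple has a line outside the frame orthogonal to it, and the others have none. -/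
def linesOK (T : Finset (Fin 8)) : Bool :=
  let ok := fun k => (List.finRange 8).all fun t => !decide (t ∈ T) || adj (fIdx t) k
  if T ∈ quadSet then (List.range 120).any fun k => ok k && !frameIdx.contains k
  else decide (Tᶜ ∉ quadSet) && (List.range 120).all fun k => !ok k || frameIdx.contains k

theorem linesCert : ∀ T ∈ Finset.powersetCard 4 (Finset.univ : Finset (Fin 8)), linesOK T = true := by
  decide +kernel

theorem quad_line {T : Finset (Fin 8)} (hT : T ∈ quadSet) :
    ∃ k < 120, k ∉ frameIdx ∧ ∀ t ∈ T, adj (fIdx t) k = true := by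
  have h := linesCert T (Finset.mem_powersetCard.2 ⟨Finset.subset_univ _, quadSet_four T hT⟩)
  simp only [linesOK, hT, if_true, List.any_eq_true, List.mem_range, Bool.and_eq_true, List.all_eq_true,
    List.mem_finRange, true_implies, Bool.or_eq_true, Bool.not_eq_true', decide_eq_false_iff_not] at h
  obtain ⟨k, hk, hok, hnf⟩ := h
  exact ⟨k, hk, fun hm => by simp [hm] at hnf,
    fun t ht => (hok t).resolve_left (fun hn => hn ht)⟩

theorem nonquad_lines {T : Finset (Fin 8)} (hc : T.card = 4) (hT : T ∉ quadSet) :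
    Tᶜ ∉ quadSet ∧ ∀ k < 120, (∀ t ∈ T, adj (fIdx t) k = true) → k ∈ frameIdx := by
  have h := linesCert T (Finset.mem_powersetCard.2 ⟨Finset.subset_univ _, hc⟩)
  simp only [linesOK, hT, if_false, Bool.and_eq_true, decide_eq_true_eq, List.all_eq_true,
    List.mem_range, List.mem_finRange, true_implies, Bool.or_eq_true, Bool.not_eq_true',
    List.contains_iff_mem] at h
  refine ⟨h.1, fun k hk hadj => (h.2 k hk).resolve_left fun e => ?_⟩
  rw [← Bool.not_eq_true, List.all_eq_true] at e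
  refine e fun t _ => ?_
  by_cases ht : t ∈ T <;> simp [ht, hadj]

theorem five_false {U : Finset (Fin 8)} (hU : U.card = 4) {p q r s t : Fin 8} (hp : p ∈ U) (hq : q ∈ U)
    (hr : r ∈ U) (hs : s ∈ U) (ht : t ∈ U) (h1 : p ≠ q) (h2 : p ≠ r) (h3 : p ≠ s) (h4 : p ≠ t)
    (h5 : q ≠ r) (h6 : q ≠ s) (h7 : q ≠ t) (h8 : r ≠ s) (h9 : r ≠ t) (h10 : s ≠ t) : False := by
  have hsub : ({p, q, r, s, t} : Finset (Fin 8)) ⊆ U := by
    intro i hi
    simp only [Finset.mem_insert, Finset.mem_singleton] at hi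
    rcases hi with h | h | h | h | h <;> rw [h] <;> assumption
  have := Finset.card_le_card hsub
  rw [hU, Finset.card_insert_of_notMem (by simp [h1, h2, h3, h4]),
    Finset.card_insert_of_notMem (by simp [h5, h6, h7]), Finset.card_insert_of_notMem (by simp [h8, h9]),
    Finset.card_insert_of_notMem (by simp [h10]), Finset.card_singleton] at this
  omega

/-- An involution of the frame preserving the quadruples cannot fix a point of a non-quadruple
and move all points outside it. -/
theorem no_involution {T : Finset (Fin 8)} (hc : T.card = 4) (hT : T ∉ quadSet) {σ : Fin 8 → Fin 8}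
    (hσ : ∀ i, σ (σ i) = i) {a : Fin 8} (ha : a ∈ T) (hσa : σ a = a)
    (hout : ∀ i, i ∉ T → σ i ∉ T ∧ σ i ≠ i)
    (hQ : ∀ U ∈ quadSet, U.image σ ∈ quadSet) : False := by
  have hi : Function.Injective σ := fun i j h => by rw [← hσ i, ← hσ j, h]
  -- the fourth point of the quadruple through `a` and a moved pair
  have fourth : ∀ e, e ∉ T → ∃ U ∈ quadSet, a ∈ U ∧ e ∈ U ∧ σ e ∈ U ∧
      ∃ x ∈ U, x ∈ T ∧ x ≠ a ∧ σ x = x := by
    intro e he
    obtain ⟨hfT, hfe⟩ := hout e he
    have hae : a ≠ e := fun h => he (h ▸ ha)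
    have haf : a ≠ σ e := fun h => hfT (h ▸ ha)
    obtain ⟨U, hU, hUa, hUe, hUf⟩ := quad_through a e (σ e) hae haf hfe.symm
    have hsame : U.image σ = U := by
      refine quad_meet _ (hQ U hU) _ hU ?_
      have : ({a, e, σ e} : Finset (Fin 8)) ⊆ U.image σ ∩ U := by
        intro i hi'
        simp only [Finset.mem_insert, Finset.mem_singleton] at hi'
        rw [Finset.mem_inter, Finset.mem_image]
        rcases hi' with h | h | h <;> rw [h]
        · exact ⟨⟨a, hUa, hσa⟩, hUa⟩
        · exact ⟨⟨σ e, hUf, hσ e⟩, hUe⟩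
        · exact ⟨⟨e, hUe, rfl⟩, hUf⟩
      refine le_trans ?_ (Finset.card_le_card this)
      rw [Finset.card_insert_of_notMem (by simp [hae, haf]), Finset.card_insert_of_notMem
        (by simp [hfe.symm]), Finset.card_singleton]
    obtain ⟨x, hxU, hxa, hxe, hxf⟩ : ∃ x ∈ U, x ≠ a ∧ x ≠ e ∧ x ≠ σ e := by
      by_contra hno
      push Not at hno
      have : U ⊆ {a, e, σ e} := fun x hx => by
        simp only [Finset.mem_insert, Finset.mem_singleton]
        by_cases h1 : x = a
        · exact Or.inl h1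
        by_cases h2 : x = e
        · exact Or.inr (Or.inl h2)
        exact Or.inr (Or.inr (hno x hx h1 h2))
      have := (quadSet_four U hU ▸ Finset.card_le_card this).trans Finset.card_le_three
      omega
    have hxU' : σ x ∈ U := hsame ▸ Finset.mem_image_of_mem σ hxU
    have hfix : σ x = x := by
      by_contra hne
      exact five_false (quadSet_four U hU) hUa hUe hUf hxU hxU' hae haf hxa.symm
        (fun h => hxa (by rw [← hσ x, ← h, hσa])) hfe.symm hxe.symm
        (fun h => hxf (by rw [h, hσ])) hxf.symm (fun h => hxe (hi h).symm) (Ne.symm hne)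
    refine ⟨U, hU, hUa, hUe, hUf, x, hxU, ?_, hxa, hfix⟩
    by_contra hxT
    exact (hout x hxT).2 hfix
  have hcc : (Tᶜ : Finset (Fin 8)).card = 4 := by rw [Finset.card_compl, hc]; rfl
  obtain ⟨e, he⟩ := Finset.card_pos.1 (by omega : 0 < (Tᶜ : Finset (Fin 8)).card)
  rw [Finset.mem_compl] at he
  obtain ⟨hfT, hfe⟩ := hout e he
  obtain ⟨g, hg, hge, hgf⟩ : ∃ g, g ∉ T ∧ g ≠ e ∧ g ≠ σ e := by
    by_contra hno
    push Not at hno
    have : (Tᶜ : Finset (Fin 8)) ⊆ {e, σ e} := fun g hg => by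
      rw [Finset.mem_compl] at hg
      simp only [Finset.mem_insert, Finset.mem_singleton]
      by_cases h : g = e
      · exact Or.inl h
      · exact Or.inr (hno g hg h)
    have := (hcc ▸ Finset.card_le_card this).trans Finset.card_le_two
    omega
  obtain ⟨hhT, hhg⟩ := hout g hg
  obtain ⟨U₁, hU₁, a₁, e₁, f₁, x, x₁, hxT, hxa, hx⟩ := fourth e he
  obtain ⟨U₂, hU₂, a₂, g₂, h₂, x', x₂, hxT', hxa', hx'⟩ := fourth g hg
  have comp : ∀ i, i ∉ T → i = e ∨ i = σ e ∨ i = g ∨ i = σ g := by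
    intro i hiT
    by_contra hne
    simp only [not_or] at hne
    obtain ⟨n1, n2, n3, n4⟩ := hne
    have hg1 : σ g ≠ e := fun h => hgf (by rw [← h, hσ])
    have hg2 : σ g ≠ σ e := fun h => hge (hi h)
    exact five_false hcc (Finset.mem_compl.2 hiT) (Finset.mem_compl.2 he) (Finset.mem_compl.2 hfT)
      (Finset.mem_compl.2 hg) (Finset.mem_compl.2 hhT) n1 n2 n3 n4 hfe.symm hge.symm hg1.symm
      hgf.symm hg2.symm hhg.symm
  -- a further point of `T`
  have three : ∀ {p q : Fin 8}, p ∈ T → q ∈ T → a ≠ p → a ≠ q → p ≠ q →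
      ∀ W ∈ quadSet, a ∈ W → p ∈ W → q ∈ W → ∃ w ∈ W, w ∉ T := by
    intro p q hp hq _ _ _ W hW _ _ _
    by_contra hno
    push Not at hno
    exact hT (Finset.eq_of_subset_of_card_le (fun w hw => hno w hw) (by rw [hc, quadSet_four W hW]) ▸ hW)
  by_cases hxx : x = x'
  · subst hxx
    obtain ⟨y, hyT, hya, hyx⟩ : ∃ y ∈ T, y ≠ a ∧ y ≠ x := by
      by_contra hno
      push Not at hno
      have : T ⊆ {a, x} := fun y hy => by
        simp only [Finset.mem_insert, Finset.mem_singleton]
        by_cases h : y = a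
        · exact Or.inl h
        · exact Or.inr (hno y hy h)
      have := (hc ▸ Finset.card_le_card this).trans Finset.card_le_two
      omega
    obtain ⟨W, hW, aW, xW, yW⟩ := quad_through a x y hxa.symm hya.symm hyx.symm
    obtain ⟨w, wW, hwT⟩ := three hxT hyT hxa.symm hya.symm hyx.symm W hW aW xW yW
    have key : ∀ U ∈ quadSet, a ∈ U → x ∈ U → w ∈ U → y ∈ U := by
      intro U hU aU xU wU
      have : W = U := by
        refine quad_meet W hW U hU ?_
        have h3 : ({a, x, w} : Finset (Fin 8)) ⊆ W ∩ U := by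
          intro i hi'
          simp only [Finset.mem_insert, Finset.mem_singleton] at hi'
          rw [Finset.mem_inter]
          rcases hi' with h | h | h <;> rw [h] <;> exact ⟨by assumption, by assumption⟩
        refine le_trans ?_ (Finset.card_le_card h3)
        have n1 : x ≠ w := fun h => hwT (h ▸ hxT)
        have n2 : a ≠ w := fun h => hwT (h ▸ ha)
        rw [Finset.card_insert_of_notMem (by simp [hxa.symm, n2]),
          Finset.card_insert_of_notMem (by simp [n1]), Finset.card_singleton]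
      exact this ▸ yW
    have four : ∀ (U : Finset (Fin 8)) (p : Fin 8), U ∈ quadSet → p ∉ T → σ p ∉ T → a ∈ U → x ∈ U →
        p ∈ U → σ p ∈ U → y ∈ U → p ≠ σ p → False := by
      intro U p hU hp hp' aU xU pU qU yU hpq
      exact five_false (quadSet_four U hU) aU xU yU pU qU hxa.symm hya.symm
        (fun h => hp (h ▸ ha)) (fun h => hp' (h ▸ ha)) hyx.symm (fun h => hp (h ▸ hxT))
        (fun h => hp' (h ▸ hxT)) (fun h => hp (h ▸ hyT)) (fun h => hp' (h ▸ hyT)) hpq
    rcases comp w hwT with rfl | rfl | rfl | rfl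
    · exact four U₁ _ hU₁ he hfT a₁ x₁ e₁ f₁ (key U₁ hU₁ a₁ x₁ e₁) hfe.symm
    · exact four U₁ _ hU₁ he hfT a₁ x₁ e₁ f₁ (key U₁ hU₁ a₁ x₁ f₁) hfe.symm
    · exact four U₂ _ hU₂ hg hhT a₂ x₂ g₂ h₂ (key U₂ hU₂ a₂ x₂ g₂) hhg.symm
    · exact four U₂ _ hU₂ hg hhT a₂ x₂ g₂ h₂ (key U₂ hU₂ a₂ x₂ h₂) hhg.symm
  · obtain ⟨W, hW, aW, xW, xW'⟩ := quad_through a x x' hxa.symm hxa'.symm hxx
    obtain ⟨w, wW, hwT⟩ := three hxT hxT' hxa.symm hxa'.symm hxx W hW aW xW xW'
    have hsame : W.image σ = W := by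
      refine quad_meet _ (hQ W hW) _ hW ?_
      have h3 : ({a, x, x'} : Finset (Fin 8)) ⊆ W.image σ ∩ W := by
        intro i hi'
        simp only [Finset.mem_insert, Finset.mem_singleton] at hi'
        rw [Finset.mem_inter, Finset.mem_image]
        rcases hi' with h | h | h <;> rw [h]
        exacts [⟨⟨a, aW, hσa⟩, aW⟩, ⟨⟨x, xW, hx⟩, xW⟩, ⟨⟨x', xW', hx'⟩, xW'⟩]
      refine le_trans ?_ (Finset.card_le_card h3)
      rw [Finset.card_insert_of_notMem (by simp [hxa.symm, hxa'.symm]),
        Finset.card_insert_of_notMem (by simp [hxx]), Finset.card_singleton]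
    have hw' : σ w ∈ W := hsame ▸ Finset.mem_image_of_mem σ wW
    exact five_false (quadSet_four W hW) aW xW xW' wW hw' hxa.symm hxa'.symm
      (fun h => hwT (h ▸ ha)) (fun h => (hout w hwT).1 (h ▸ ha)) hxx (fun h => hwT (h ▸ hxT))
      (fun h => (hout w hwT).1 (h ▸ hxT)) (fun h => hwT (h ▸ hxT'))
      (fun h => (hout w hwT).1 (h ▸ hxT')) (hout w hwT).2.symm

/-- Frame vectors. -/
def fv (i : Fin 8) : Fin 8 → ZMod 3 := rvv (fIdx i)

/-- The matrix of frame vectors. -/
def frameMat : Matrix (Fin 8) (Fin 8) (ZMod 3) := Matrix.of fun a i => fv i a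

theorem frameMat_inv : frameMat * ((2 : ZMod 3) • frameMat.transpose) = 1 := by decide +kernel

theorem ext_frame {X Y : Matrix (Fin 8) (Fin 8) (ZMod 3)}
    (h : ∀ i, X.mulVec (fv i) = Y.mulVec (fv i)) : X = Y := by
  have e : X * frameMat = Y * frameMat := by
    ext a i
    exact congrFun (h i) a
  have := congrArg (fun Z => Z * ((2 : ZMod 3) • frameMat.transpose)) e
  simpa only [mul_assoc, frameMat_inv, mul_one] using this

theorem fv_dot (i j : Fin 8) : dotProduct (fv i) (fv j) = if i = j then 2 else 0 := by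
  by_cases h : i = j
  · subst h; rw [if_pos rfl]; exact dot_self (fIdx_lt i)
  · rw [if_neg h]; exact (adj_iff (fIdx_lt i) (fIdx_lt j)).1 (fIdx_adj h).1

theorem fr_fv (j i : Fin 8) :
    (H6.O8.fr j : Matrix (Fin 8) (Fin 8) (ZMod 3)).mulVec (fv i) = if i = j then -fv i else fv i := by
  rw [fr_eq, Rf_mulVec (fIdx_lt j), show rvv (fIdx j) = fv j from rfl, fv_dot]
  by_cases h : i = j
  · subst h
    rw [if_pos rfl, if_pos rfl]
    ext a
    simp only [Pi.sub_apply, Pi.smul_apply, Pi.neg_apply, smul_eq_mul]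
    ring
  · rw [if_neg h, if_neg (Ne.symm h), zero_smul, sub_zero]

/-- The product attached to four lines. -/
def prod4 (a b c d : Fin 8) : H6.O8.GG :=
  (H6.O8.zM * H6.O8.fr a * H6.O8.fr b) * (H6.O8.zM * H6.O8.fr a * H6.O8.fr c) *
    (H6.O8.zM * H6.O8.fr a * H6.O8.fr d)

theorem prod4_fv {a b c d : Fin 8} (hab : a ≠ b) (hac : a ≠ c) (had : a ≠ d) (hbc : b ≠ c)
    (hbd : b ≠ d) (hcd : c ≠ d) (i : Fin 8) :
    (prod4 a b c d : Matrix (Fin 8) (Fin 8) (ZMod 3)).mulVec (fv i) =
      if i ∈ ({a, b, c, d} : Finset (Fin 8)) then fv i else -fv i := by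
  have hz : ((H6.O8.zM : H6.O8.GG) : Matrix (Fin 8) (Fin 8) (ZMod 3)) = -1 := by
    rw [H6.O8.zM, Units.val_neg, Units.val_one]
  simp only [prod4, Units.val_mul, ← Matrix.mulVec_mulVec, hz]
  by_cases ha : i = a
  · subst ha; simp [fr_fv, hab, hac, had, Matrix.neg_mulVec, Matrix.mulVec_neg]
  by_cases hb : i = b
  · subst hb; simp [fr_fv, ha, hbc, hbd, Matrix.neg_mulVec, Matrix.mulVec_neg]
  by_cases hc : i = c
  · subst hc; simp [fr_fv, ha, hb, hcd, Matrix.neg_mulVec, Matrix.mulVec_neg]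
  by_cases hd : i = d
  · subst hd; simp [fr_fv, ha, hb, hc, Matrix.neg_mulVec, Matrix.mulVec_neg]
  · simp [fr_fv, ha, hb, hc, hd, Matrix.neg_mulVec, Matrix.mulVec_neg]

theorem Kc_fix {a : Fin 8} {y : H6.O8.GG} (hy : y ∈ H6.O8.Kc (H6.O8.fr a)) :
    y ∈ M ∧ (y : Matrix (Fin 8) (Fin 8) (ZMod 3)).mulVec (fv a) = fv a := by
  induction hy using Subgroup.closure_induction with
  | mem x hx =>
    obtain ⟨hxM, hcom, hodd⟩ := hx
    rw [MM_eq] at hxM
    refine ⟨hxM, ?_⟩
    obtain ⟨l, hl, e, ev⟩ := exists_conj_Rf hxM (fIdx_lt a)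
    have hla : fIdx a = l := by
      refine (Rf_inj_comm (fIdx_lt a) hl).1 ?_
      rw [← e, ← fr_eq, ← hcom.eq, mul_inv_cancel_right]
    subst hla
    rcases ev with ev | ev
    · exact ev
    · exfalso
      have hpow : ∀ n : ℕ, ((x ^ n : H6.O8.GG) : Matrix (Fin 8) (Fin 8) (ZMod 3)).mulVec (fv a) =
          (-1 : ZMod 3) ^ n • fv a := by
        intro n
        induction n with
        | zero => simp
        | succ n ihn =>
          rw [pow_succ, Units.val_mul, ← Matrix.mulVec_mulVec, show fv a = rvv (fIdx a) from rfl, ev,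
            Matrix.mulVec_neg, show rvv (fIdx a) = fv a from rfl, ihn, pow_succ, mul_neg_one, neg_smul]
      have h := hpow (orderOf x)
      rw [pow_orderOf_eq_one, Units.val_one, Matrix.one_mulVec, hodd.neg_one_pow] at h
      have h2 := congrArg (dotProduct (fv a)) h
      rw [dotProduct_smul, fv_dot, if_pos rfl] at h2
      exact absurd h2 (by decide)
  | one => exact ⟨one_mem _, by simp⟩
  | mul x z _ _ hx hz =>
    exact ⟨mul_mem hx.1 hz.1, by rw [Units.val_mul, ← Matrix.mulVec_mulVec, hz.2, hx.2]⟩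
  | inv x _ hx =>
    refine ⟨inv_mem hx.1, ?_⟩
    conv_lhs => rw [← hx.2]
    rw [Matrix.mulVec_mulVec, Units.inv_mul, Matrix.one_mulVec]

theorem nonquad_no_root {a b c d : Fin 8} (hab : a ≠ b) (hac : a ≠ c) (had : a ≠ d) (hbc : b ≠ c)
    (hbd : b ≠ d) (hcd : c ≠ d) (hT : ({a, b, c, d} : Finset (Fin 8)) ∉ quadSet) {y : H6.O8.GG}
    (hy : y ∈ H6.O8.Kc (H6.O8.fr a)) (hyy : y * y = prod4 a b c d) : False := by
  obtain ⟨hyM, hfix⟩ := Kc_fix hy
  set T : Finset (Fin 8) := {a, b, c, d} with hTdef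
  have hcard : T.card = 4 := by
    rw [hTdef, Finset.card_insert_of_notMem (by simp [hab, hac, had]),
      Finset.card_insert_of_notMem (by simp [hbc, hbd]), Finset.card_insert_of_notMem (by simp [hcd]),
      Finset.card_singleton]
  obtain ⟨hTc, hlines⟩ := nonquad_lines hcard hT
  have hccard : (Tᶜ : Finset (Fin 8)).card = 4 := by rw [Finset.card_compl, hcard]; rfl
  obtain ⟨-, hlinesc⟩ := nonquad_lines hccard hTc
  set Y : Matrix (Fin 8) (Fin 8) (ZMod 3) := (y : Matrix (Fin 8) (Fin 8) (ZMod 3))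
  have hYY : ∀ i, Y.mulVec (Y.mulVec (fv i)) = if i ∈ T then fv i else -fv i := by
    intro i
    rw [Matrix.mulVec_mulVec, ← Units.val_mul, hyy, prod4_fv hab hac had hbc hbd hcd]
  -- images of frame vectors
  have himg : ∀ i, ∃ j, (Y.mulVec (fv i) = fv j ∨ Y.mulVec (fv i) = -fv j) ∧ (i ∉ T → j ∉ T) := by
    intro i
    obtain ⟨k, hk, ek⟩ := (mem_M_props hyM).2 _ (fIdx_lt i)
    change Y.mulVec (fv i) = rvv k ∨ Y.mulVec (fv i) = -rvv k at ek
    have horth : ∀ t, (t ∈ T ↔ i ∉ T) → adj (fIdx t) k = true := by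
      intro t ht
      rw [adj_iff (fIdx_lt t) hk]
      have h1 := dot_map hyM (Y.mulVec (fv t)) (Y.mulVec (Y.mulVec (fv i)))
      rw [hYY i, hYY t] at h1
      have h3 := dot_map hyM (fv t) (Y.mulVec (fv i))
      change dotProduct (Y.mulVec (fv t)) (Y.mulVec (Y.mulVec (fv i))) = _ at h3
      rw [hYY i] at h3
      have h0 : dotProduct (fv t) (Y.mulVec (fv i)) = 0 := by
        by_cases hiT : i ∈ T
        · have htT : t ∉ T := fun h => (ht.1 h) hiT
          simp only [if_pos hiT, if_neg htT] at h1 h3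
          simp only [Matrix.mulVec_neg, neg_dotProduct] at h1
          rw [← h3] at h1 ⊢
          revert h1
          generalize dotProduct (Y.mulVec (fv t)) (fv i) = D
          generalize dotProduct (fv t) (Y.mulVec (fv i)) = D'
          revert D D'
          decide
        · have htT : t ∈ T := ht.2 hiT
          simp only [if_neg hiT, if_pos htT] at h1 h3
          simp only [Matrix.mulVec_neg, dotProduct_neg] at h1 h3
          rw [← h3] at h1 ⊢
          revert h1
          generalize dotProduct (Y.mulVec (fv t)) (fv i) = D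
          generalize dotProduct (fv t) (Y.mulVec (fv i)) = D'
          revert D D'
          decide
      rcases ek with e | e <;> rw [e] at h0
      · exact h0
      · rwa [dotProduct_neg, neg_eq_zero] at h0
    have hkf : k ∈ frameIdx := by
      by_cases hiT : i ∈ T
      · exact hlinesc k hk fun t ht => horth t (by simp [hiT, Finset.mem_compl.1 ht])
      · exact hlines k hk fun t ht => horth t (by simp [hiT, ht])
    obtain ⟨j, rfl⟩ := fIdx_surj hkf
    exact ⟨j, ek, fun hiT hjT => adj_self hk (horth j (by simp [hiT, hjT]))⟩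
  choose σ hσ hσT using himg
  have line_eq : ∀ {i j : Fin 8}, (fv i = fv j ∨ fv i = -fv j) → i = j :=
    fun {i j} h => fIdx_inj (line_inj (fIdx_lt i) (fIdx_lt j) h)
  have hinv : ∀ i, σ (σ i) = i := by
    intro i
    symm
    refine line_eq ?_
    have h := hYY i
    rcases hσ i with e | e <;> rcases hσ (σ i) with e' | e' <;>
      simp only [e, e', Matrix.mulVec_neg, neg_neg] at h <;>
      by_cases hiT : i ∈ T <;> simp only [hiT, if_true, if_false] at h <;>
      first | exact Or.inl h.symm | exact Or.inr h.symm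
            | exact Or.inl (by rw [neg_inj] at h; exact h.symm)
            | exact Or.inr (by rw [h, neg_neg]) | exact Or.inr (by rw [← h, neg_neg])
  have haT : a ∈ T := by simp [hTdef]
  have hσa : σ a = a := by
    symm
    refine line_eq ?_
    rcases hσ a with e | e
    · exact Or.inl (hfix.symm.trans e)
    · exact Or.inr (hfix.symm.trans e)
  have hmove : ∀ i, i ∉ T → σ i ∉ T ∧ σ i ≠ i := by
    intro i hiT
    refine ⟨hσT i hiT, fun e0 => ?_⟩
    have h := hYY i
    rw [if_neg hiT] at h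
    have hs := hσ i
    rw [e0] at hs
    have h' : fv i = -fv i := by
      rcases hs with e | e <;> simp only [e, Matrix.mulVec_neg, neg_neg] at h <;> exact h
    have h2 := congrArg (dotProduct (fv i)) h'
    rw [dotProduct_neg, fv_dot, if_pos rfl] at h2
    exact absurd h2 (by decide)
  refine no_involution hcard hT hinv haT hσa hmove fun U hU => ?_
  by_contra hUQ
  have hσi : Function.Injective σ := fun i j h => by rw [← hinv i, ← hinv j, h]
  have hUc : (U.image σ).card = 4 := by rw [Finset.card_image_of_injective _ hσi, quadSet_four U hU]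
  obtain ⟨-, hl⟩ := nonquad_lines hUc hUQ
  obtain ⟨k, hk, hkf, hkU⟩ := quad_line hU
  obtain ⟨k', hk', ek'⟩ := (mem_M_props hyM).2 k hk
  have hk'f : k' ∈ frameIdx := by
    refine hl k' hk' fun t ht => ?_
    obtain ⟨u, hu, rfl⟩ := Finset.mem_image.1 ht
    rw [adj_iff (fIdx_lt _) hk']
    have h0 := (adj_iff (fIdx_lt u) hk).1 (hkU u hu)
    rw [← dot_map hyM] at h0
    change dotProduct (Y.mulVec (fv u)) _ = 0 at h0
    show dotProduct (fv (σ u)) (rvv k') = 0
    rcases hσ u with e | e <;> rcases ek' with e' | e' <;> simpa [e, e'] using h0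
  obtain ⟨j, rfl⟩ := fIdx_surj hk'f
  have hs := hσ (σ j)
  rw [hinv j] at hs
  have hYi : Function.Injective Y.mulVec := Matrix.mulVec_injective_of_isUnit y.isUnit
  change Y.mulVec (rvv k) = fv j ∨ Y.mulVec (rvv k) = -fv j at ek'
  have hkj : k = fIdx (σ j) := by
    refine line_inj hk (fIdx_lt _) ?_
    rcases hs with e | e <;> rcases ek' with e' | e'
    · exact Or.inl (hYi (e'.trans e.symm))
    · exact Or.inr (hYi (by rw [e', Matrix.mulVec_neg]; exact congrArg Neg.neg e.symm))
    · exact Or.inr (hYi (by rw [e', Matrix.mulVec_neg]; change fv j = -Y.mulVec (fv (σ j)); rw [e, neg_neg]))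
    · exact Or.inl (hYi (e'.trans e.symm))
  refine hkf (hkj ▸ ?_)
  have hlen : (σ j).val < frameIdx.length := (σ j).isLt
  rw [fIdx, List.getD_eq_getElem?_getD, List.getElem?_eq_getElem hlen, Option.getD_some]
  exact List.getElem_mem hlen

/-- The witness table. -/
def witOK : Bool :=
  quadWit.all fun tw =>
    let u := tw.2.getD 0 0
    let w := tw.2.getD 1 0
    let s := tw.2.getD 2 0
    let t := tw.2.getD 3 0
    let X := rmul (refRows (root u)) (refRows (root w))
    let X' := rmul (refRows (root s)) (refRows (root t))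
    let Y2 := rmul (rmul X X') (rmul X X')
    decide (u < 120) && decide (w < 120) && decide (s < 120) && decide (t < 120) &&
      (rmul X (rmul X X) == rsc 1) && (rmul X' (rmul X' X') == rsc 1) &&
      (List.finRange 8).all fun i =>
        if tw.1.contains i.val then
          (rvec Y2 (root (fIdx i)) == root (fIdx i)) &&
            adj (fIdx i) u && adj (fIdx i) w && adj (fIdx i) s && adj (fIdx i) t
        else (rvec Y2 (root (fIdx i)) == rsmul 2 (root (fIdx i)))

theorem witCert : witOK = true := by decide +kernel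

/-- The table lists every quadruple. -/
theorem wit_mem : ∀ T ∈ quadSet, ∃ tw ∈ quadWit, ∀ i : Fin 8, i ∈ T ↔ tw.1.contains i.val = true := by
  decide +kernel

attribute [local irreducible] Rf rmul refRows root

theorem two_conj {G : Type*} [Group G] {m n x z r : G} (hr : r * r = 1) (h : m * x * m⁻¹ = r)
    (h' : n * z * n⁻¹ = r) : x * z = m⁻¹ * (r * (m * n⁻¹) * r⁻¹) * n := by
  rw [inv_eq_of_mul_eq_one_right hr]
  calc x * z = m⁻¹ * (m * x * m⁻¹ * (m * n⁻¹) * (n * z * n⁻¹)) * n := by group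
    _ = _ := by rw [h, h']

theorem cube_eq_one {X Y : H6.O8.GG} {A B : List (List ℕ)}
    (hX : (X : Matrix (Fin 8) (Fin 8) (ZMod 3)) = toM A) (hY : (Y : Matrix (Fin 8) (Fin 8) (ZMod 3)) = toM B)
    (h : rmul (rmul A B) (rmul (rmul A B) (rmul A B)) = rsc 1) : (X * Y) ^ 3 = 1 := Units.ext (by
  rw [pow_succ', pow_two]
  simp only [Units.val_mul, hX, hY, ← toM_rmul]
  rw [h, toM_one, Units.val_one])

theorem pair_mem_Kc {a : Fin 8} {p q : ℕ} (hp : p < 120) (hq : q < 120)
    (ap : adj (fIdx a) p = true) (aq : adj (fIdx a) q = true)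
    (hcube : rmul (rmul (refRows (root p)) (refRows (root q)))
      (rmul (rmul (refRows (root p)) (refRows (root q))) (rmul (refRows (root p)) (refRows (root q)))) = rsc 1) :
    Rf p * Rf q ∈ H6.O8.Kc (H6.O8.fr a) := by
  refine subset_closure ⟨?_, ?_, ?_⟩
  · obtain ⟨m, hm, em⟩ := word_one hp
    obtain ⟨n, hn, en⟩ := word_one hq
    rw [MM_eq, two_conj (by rw [rR_eq]; exact Rf_sq base_lt) em en]
    exact mul_mem (mul_mem (inv_mem hm)
      ((mem_normalizer_iff.1 (W_le_normalizer rR_mem_W) _).1 (mul_mem hm (inv_mem hn)))) hn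
  · rw [fr_eq, commute_iff_eq, ← mul_assoc, Rf_commute (fIdx_lt a) hp ap, mul_assoc,
      Rf_commute (fIdx_lt a) hq aq, ← mul_assoc]
  · exact Odd.of_dvd_nat (by decide) (orderOf_dvd_of_pow_eq_one (cube_eq_one (Rf_val hp) (Rf_val hq) hcube))

theorem quad_root {a b c d : Fin 8} (hab : a ≠ b) (hac : a ≠ c) (had : a ≠ d) (hbc : b ≠ c)
    (hbd : b ≠ d) (hcd : c ≠ d) (hT : ({a, b, c, d} : Finset (Fin 8)) ∈ quadSet) :
    ∃ y ∈ H6.O8.Kt (H6.O8.fr a), y * y = prod4 a b c d := by
  obtain ⟨tw, htw, hmem⟩ := wit_mem _ hT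
  have hc := witCert
  simp only [witOK, List.all_eq_true, Bool.and_eq_true, decide_eq_true_eq, beq_iff_eq,
    List.mem_finRange, true_implies] at hc
  obtain ⟨⟨⟨⟨⟨⟨hu, hw⟩, hs⟩, ht⟩, hX⟩, hX'⟩, hact⟩ := hc tw htw
  generalize tw.2.getD 0 0 = u at hu hX hact
  generalize tw.2.getD 1 0 = w at hw hX hact
  generalize tw.2.getD 2 0 = s at hs hX' hact
  generalize tw.2.getD 3 0 = t at ht hX' hact
  have ha := hact a
  rw [(hmem a).1 (by simp), if_pos rfl] at ha
  simp only [Bool.and_eq_true, beq_iff_eq] at ha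
  obtain ⟨⟨⟨⟨-, au⟩, aw⟩, as⟩, at'⟩ := ha
  have k1 := pair_mem_Kc (a := a) hu hw au aw hX
  have k2 := pair_mem_Kc (a := a) hs ht as at' hX'
  obtain ⟨y, hy⟩ : ∃ y, y = Rf u * Rf w * (Rf s * Rf t) := ⟨_, rfl⟩
  have hyy : y * y = prod4 a b c d := Units.ext (ext_frame fun i => by
    rw [prod4_fv hab hac had hbc hbd hcd, hy]
    simp only [Units.val_mul, Rf_val hu, Rf_val hw, Rf_val hs, Rf_val ht, ← toM_rmul]
    rw [show fv i = vec (root (fIdx i)) from rfl, ← vec_rvec]
    have hi := hact i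
    by_cases hiT : i ∈ ({a, b, c, d} : Finset (Fin 8))
    · rw [if_pos hiT]
      rw [(hmem i).1 hiT, if_pos rfl] at hi
      simp only [Bool.and_eq_true, beq_iff_eq] at hi
      rw [hi.1.1.1.1]
    · rw [if_neg hiT]
      rw [if_neg (fun h => hiT ((hmem i).2 h)), beq_iff_eq] at hi
      rw [hi, vec_rsmul, show ((2 : ℕ) : ZMod 3) = -1 from by decide, neg_one_smul])
  refine ⟨y, subset_closure ⟨hy ▸ mul_mem k1 k2, 2, ?_⟩, hyy⟩
  rw [show (2 : ℕ) ^ 2 = 2 * 2 from rfl, pow_mul, pow_two, pow_two, hyy]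
  refine Units.ext (ext_frame fun i => ?_)
  rw [Units.val_mul, ← Matrix.mulVec_mulVec, Units.val_one, Matrix.one_mulVec,
    prod4_fv hab hac had hbc hbd hcd]
  by_cases hiT : i ∈ ({a, b, c, d} : Finset (Fin 8))
  · rw [if_pos hiT, prod4_fv hab hac had hbc hbd hcd, if_pos hiT]
  · rw [if_neg hiT, Matrix.mulVec_neg, prod4_fv hab hac had hbc hbd hcd, if_neg hiT, neg_neg]

end H20.O8Cover

namespace H6.O8

open H20.O8Cover

theorem frameFacts : FrameFacts where
  fr_conj := fr_conj'
  fr_comm := fr_comm'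
  fr_ne := fr_ne'
  frame := frame'
  quad := ⟨quadSet, quadSet_card, quadSet_four, fun a b c d hab hac had hbc hbd hcd =>
    ⟨fun h => quad_root hab hac had hbc hbd hcd h, fun ⟨y, hy, e⟩ => by
      by_contra hT
      refine nonquad_no_root hab hac had hbc hbd hcd hT ?_ e
      exact (Subgroup.closure_le (K := Kc (fr a))).2 (fun x hx => hx.1) hy⟩⟩

theorem frTrans : ∀ a : Fin 8, ∃ m ∈ MM, ∃ σ : Equiv.Perm (Fin 8),
    σ 0 = a ∧ ∀ i, m * fr i * m⁻¹ = fr (σ i) := frTrans'

end H6.O8
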