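import Cfsg.Agent.H20.O8Cover.Iso
import Cfsg.Agent.H20.O8Cover.FrameData

/-!
The 120 reflections of the model and their behaviour under conjugation.
-/

set_option autoImplicit false
set_option maxRecDepth 100000

namespace H20.O8Cover

open H76.Exc Subgroup

/-- A vector given by a list. -/
def vec (v : List ℕ) : Fin 8 → ZMod 3 := fun i => ((v.getD i.val 0 : ℕ) : ZMod 3)

/-- Matrix times vector, by rows. -/
def rvec (A : List (List ℕ)) (v : List ℕ) : List ℕ :=
  List.ofFn fun i : Fin 8 =>
    ((A.getD i.val []).getD 0 0 * v.getD 0 0 + (A.getD i.val []).getD 1 0 * v.getD 1 0 +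
      (A.getD i.val []).getD 2 0 * v.getD 2 0 + (A.getD i.val []).getD 3 0 * v.getD 3 0 +
      (A.getD i.val []).getD 4 0 * v.getD 4 0 + (A.getD i.val []).getD 5 0 * v.getD 5 0 +
      (A.getD i.val []).getD 6 0 * v.getD 6 0 + (A.getD i.val []).getD 7 0 * v.getD 7 0) % 3

/-- A scalar multiple. -/
def rsmul (c : ℕ) (v : List ℕ) : List ℕ := List.ofFn fun i : Fin 8 => c * v.getD i.val 0 % 3

/-- The scalar product. -/
def rdot (u v : List ℕ) : ℕ :=
  (u.getD 0 0 * v.getD 0 0 + u.getD 1 0 * v.getD 1 0 + u.getD 2 0 * v.getD 2 0 +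
    u.getD 3 0 * v.getD 3 0 + u.getD 4 0 * v.getD 4 0 + u.getD 5 0 * v.getD 5 0 +
    u.getD 6 0 * v.getD 6 0 + u.getD 7 0 * v.getD 7 0) % 3

theorem vec_rvec (A : List (List ℕ)) (v : List ℕ) :
    vec (rvec A v) = (toM A).mulVec (vec v) := by
  funext i
  simp only [vec, rvec, toM, Matrix.mulVec, dotProduct, Matrix.of_apply, Fin.sum_univ_eight,
    List.getD_eq_getElem?_getD, List.getElem?_ofFn, i.isLt, dif_pos, Option.getD_some,
    ZMod.natCast_mod, Nat.cast_add, Nat.cast_mul]
  rfl

theorem vec_rsmul (c : ℕ) (v : List ℕ) : vec (rsmul c v) = (c : ZMod 3) • vec v := by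
  funext i
  simp only [vec, rsmul, Pi.smul_apply, smul_eq_mul,
    List.getD_eq_getElem?_getD, List.getElem?_ofFn, i.isLt, dif_pos, Option.getD_some,
    ZMod.natCast_mod, Nat.cast_mul]

theorem dot_vec (u v : List ℕ) : dotProduct (vec u) (vec v) = ((rdot u v : ℕ) : ZMod 3) := by
  simp only [vec, rdot, dotProduct, Fin.sum_univ_eight, ZMod.natCast_mod, Nat.cast_add, Nat.cast_mul]
  rfl

/-- The reflection in a vector, by rows. -/
def refRows (v : List ℕ) : List (List ℕ) :=
  List.ofFn fun i : Fin 8 => List.ofFn fun j : Fin 8 =>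
    ((if i = j then 1 else 0) + 2 * (v.getD i.val 0 * v.getD j.val 0)) % 3

theorem toM_refRows (v : List ℕ) :
    toM (refRows v) = 1 - Matrix.vecMulVec (vec v) (vec v) := by
  ext i j
  simp only [vec, refRows, toM, Matrix.of_apply, Matrix.sub_apply, Matrix.one_apply,
    Matrix.vecMulVec_apply, List.getD_eq_getElem?_getD, List.getElem?_ofFn, i.isLt, j.isLt, dif_pos,
    Option.getD_some, Fin.eta, ZMod.natCast_mod, Nat.cast_add, Nat.cast_mul, Nat.cast_ite,
    Nat.cast_one, Nat.cast_zero]
  rw [show ((2 : ℕ) : ZMod 3) = -1 from by decide]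
  ring

/-- The representative of a line. -/
def root (k : ℕ) : List ℕ := rootTab.getD k []

/-- The representative of a line, as a vector. -/
def rvv (k : ℕ) : Fin 8 → ZMod 3 := vec (root k)

/-- Lines are orthogonal. -/
def adj (k l : ℕ) : Bool := (maskTab.getD k 0).testBit l

/-- The table of lines: each representative has norm two and reflections square to one. -/
def normOK : Bool := (List.range 120).all fun k => rdot (root k) (root k) == 2

theorem normCert : normOK = true := by decide +kernel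

theorem dot_self {k : ℕ} (hk : k < 120) : dotProduct (rvv k) (rvv k) = 2 := by
  have h := normCert
  simp only [normOK, List.all_eq_true, List.mem_range, beq_iff_eq] at h
  rw [rvv, dot_vec, h k hk]; rfl

theorem refl_mul_self' {v : Fin 8 → ZMod 3} (hv : dotProduct v v = 2) :
    (1 - Matrix.vecMulVec v v) * (1 - Matrix.vecMulVec v v) = 1 := by
  rw [mul_sub, sub_mul, sub_mul, one_mul, one_mul, mul_one, Matrix.vecMulVec_mul_vecMulVec, hv]
  ext i j
  simp only [Matrix.sub_apply, Matrix.vecMulVec_apply, Pi.smul_apply, smul_eq_mul]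
  have h3 : (3 : ZMod 3) = 0 := by decide
  linear_combination ((-1 : ZMod 3) * 0 + v i * v j - v i * v j) * h3

/-- The reflection in a line. -/
def Rf (k : ℕ) : GL (Fin 8) (ZMod 3) :=
  if h : k < 120 then
    ⟨toM (refRows (root k)), toM (refRows (root k)),
      by rw [toM_refRows]; exact refl_mul_self' (dot_self h),
      by rw [toM_refRows]; exact refl_mul_self' (dot_self h)⟩
  else 1

theorem Rf_val {k : ℕ} (hk : k < 120) :
    ((Rf k : GL (Fin 8) (ZMod 3)) : Matrix (Fin 8) (Fin 8) (ZMod 3)) = toM (refRows (root k)) := by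
  rw [Rf, dif_pos hk]

theorem Rf_sq {k : ℕ} (hk : k < 120) : Rf k * Rf k = 1 := Units.ext (by
  rw [Units.val_mul, Rf_val hk, toM_refRows]
  exact (refl_mul_self' (v := rvv k) (dot_self hk)).trans Units.val_one.symm)

theorem Rf_mulVec {k : ℕ} (hk : k < 120) (w : Fin 8 → ZMod 3) :
    ((Rf k : GL (Fin 8) (ZMod 3)) : Matrix (Fin 8) (Fin 8) (ZMod 3)).mulVec w =
      w - dotProduct (rvv k) w • rvv k := by
  rw [Rf_val hk, toM_refRows, Matrix.sub_mulVec, Matrix.one_mulVec, Matrix.vecMulVec_mulVec]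
  ext i
  simp [rvv, mul_comm]

/-- The action of a lift on lines. -/
def permOf (r k : ℕ) : ℕ := (permTab.getD r []).getD k 0

/-- Lifts are symmetric and permute lines as tabulated. -/
def permOK : Bool :=
  (List.range 24).all fun r => (d4LiftA.getD r [] == H6.O8.rtr (d4LiftA.getD r [])) &&
    (List.range 120).all fun k => decide (permOf r k < 120) &&
      (let w := rvec (d4LiftA.getD r []) (root k)
       (w == root (permOf r k)) || (w == rsmul 2 (root (permOf r k))))

theorem permCert : permOK = true := by decide +kernel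

theorem toM_rtr (A : List (List ℕ)) : toM (H6.O8.rtr A) = (toM A).transpose := by
  ext i j
  simp only [H6.O8.rtr, toM, Matrix.of_apply, Matrix.transpose_apply, List.getD_eq_getElem?_getD,
    List.getElem?_ofFn, i.isLt, j.isLt, dif_pos, Option.getD_some, Fin.eta]

theorem gen_perm {r k : ℕ} (hr : r < 24) (hk : k < 120) : permOf r k < 120 ∧
    (toM (d4LiftA.getD r [])).transpose = toM (d4LiftA.getD r []) ∧
    ((toM (d4LiftA.getD r [])).mulVec (rvv k) = rvv (permOf r k) ∨
      (toM (d4LiftA.getD r [])).mulVec (rvv k) = -rvv (permOf r k)) := by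
  have h := permCert
  simp only [permOK, List.all_eq_true, List.mem_range, Bool.and_eq_true, beq_iff_eq, decide_eq_true_eq,
    Bool.or_eq_true] at h
  obtain ⟨hsym, hp⟩ := h r hr
  obtain ⟨hlt, hv⟩ := hp k hk
  refine ⟨hlt, ?_, ?_⟩
  · rw [← toM_rtr, ← hsym]
  · rcases hv with e | e
    · left; rw [rvv, ← vec_rvec, e]; rfl
    · right
      rw [rvv, ← vec_rvec, e, vec_rsmul, show ((2 : ℕ) : ZMod 3) = -1 from by decide, neg_one_smul]
      rfl

/-- Orthogonality of the cover and invariance of the set of lines. -/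
theorem mem_M_props {x : GL (Fin 8) (ZMod 3)} (hx : x ∈ M) :
    (x : Matrix (Fin 8) (Fin 8) (ZMod 3)).transpose * (x : Matrix (Fin 8) (Fin 8) (ZMod 3)) = 1 ∧
    ∀ k < 120, ∃ l < 120, (x : Matrix (Fin 8) (Fin 8) (ZMod 3)).mulVec (rvv k) = rvv l ∨
      (x : Matrix (Fin 8) (Fin 8) (ZMod 3)).mulVec (rvv k) = -rvv l := by
  induction hx using Subgroup.closure_induction_left with
  | one => exact ⟨by simp, fun k hk => ⟨k, hk, Or.inl (by simp)⟩⟩
  | mul_left g hg y _ ih =>
    obtain ⟨r, hr, rfl⟩ := hg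
    exact step hr ih
  | inv_mul_cancel g hg y _ ih =>
    obtain ⟨r, hr, rfl⟩ := hg
    rw [gen_inv hr]
    exact step hr ih
where
  step {r : ℕ} (hr : r < 24) {y : GL (Fin 8) (ZMod 3)}
      (ih : (y : Matrix (Fin 8) (Fin 8) (ZMod 3)).transpose * (y : Matrix (Fin 8) (Fin 8) (ZMod 3)) = 1 ∧
        ∀ k < 120, ∃ l < 120, (y : Matrix (Fin 8) (Fin 8) (ZMod 3)).mulVec (rvv k) = rvv l ∨
          (y : Matrix (Fin 8) (Fin 8) (ZMod 3)).mulVec (rvv k) = -rvv l) :
      ((gen r * y : GL (Fin 8) (ZMod 3)) : Matrix (Fin 8) (Fin 8) (ZMod 3)).transpose *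
        ((gen r * y : GL (Fin 8) (ZMod 3)) : Matrix (Fin 8) (Fin 8) (ZMod 3)) = 1 ∧
      ∀ k < 120, ∃ l < 120,
        ((gen r * y : GL (Fin 8) (ZMod 3)) : Matrix (Fin 8) (Fin 8) (ZMod 3)).mulVec (rvv k) = rvv l ∨
        ((gen r * y : GL (Fin 8) (ZMod 3)) : Matrix (Fin 8) (Fin 8) (ZMod 3)).mulVec (rvv k) = -rvv l := by
    have hsym := (gen_perm (k := 0) hr (by norm_num)).2.1
    have hsq : toM (d4LiftA.getD r []) * toM (d4LiftA.getD r []) = 1 := by
      rw [← gen_val hr, ← Units.val_mul, gen_sq hr, Units.val_one]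
    refine ⟨?_, fun k hk => ?_⟩
    · rw [Units.val_mul, gen_val hr, Matrix.transpose_mul, hsym, mul_assoc,
        ← mul_assoc (toM _) (toM _), hsq, one_mul, ih.1]
    · obtain ⟨l, hl, e⟩ := ih.2 k hk
      obtain ⟨hlt, -, e'⟩ := gen_perm hr hl
      refine ⟨_, hlt, ?_⟩
      rw [Units.val_mul, gen_val hr, ← Matrix.mulVec_mulVec]
      rcases e with e | e <;> rcases e' with e' | e'
      · exact Or.inl (by rw [e, e'])
      · exact Or.inr (by rw [e, e'])
      · exact Or.inr (by rw [e, Matrix.mulVec_neg, e'])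
      · exact Or.inl (by rw [e, Matrix.mulVec_neg, e', neg_neg])

theorem dot_map {x : GL (Fin 8) (ZMod 3)} (hx : x ∈ M) (v w : Fin 8 → ZMod 3) :
    dotProduct ((x : Matrix (Fin 8) (Fin 8) (ZMod 3)).mulVec v)
      ((x : Matrix (Fin 8) (Fin 8) (ZMod 3)).mulVec w) = dotProduct v w := by
  rw [Matrix.dotProduct_mulVec, ← Matrix.vecMul_transpose, Matrix.vecMul_vecMul, (mem_M_props hx).1,
    Matrix.vecMul_one]

theorem inv_val_eq {x : GL (Fin 8) (ZMod 3)} (hx : x ∈ M) :
    ((x⁻¹ : GL (Fin 8) (ZMod 3)) : Matrix (Fin 8) (Fin 8) (ZMod 3)) =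
      (x : Matrix (Fin 8) (Fin 8) (ZMod 3)).transpose :=
  left_inv_eq_right_inv (mem_M_props hx).1 x.mul_inv |>.symm

/-- Conjugation moves reflections as the vectors move. -/
theorem conj_Rf {x : GL (Fin 8) (ZMod 3)} (hx : x ∈ M) {k l : ℕ} (hk : k < 120) (hl : l < 120)
    (e : (x : Matrix (Fin 8) (Fin 8) (ZMod 3)).mulVec (rvv k) = rvv l ∨
      (x : Matrix (Fin 8) (Fin 8) (ZMod 3)).mulVec (rvv k) = -rvv l) :
    x * Rf k * x⁻¹ = Rf l := by
  apply Units.ext
  rw [Units.val_mul, Units.val_mul, Rf_val hk, Rf_val hl, toM_refRows, toM_refRows, mul_sub, sub_mul,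
    mul_one, Units.mul_inv, inv_val_eq hx, Matrix.mul_vecMulVec, Matrix.vecMulVec_mul,
    Matrix.vecMul_transpose, ← rvv, ← rvv]
  rcases e with e | e <;> simp [e]

theorem exists_conj_Rf {x : GL (Fin 8) (ZMod 3)} (hx : x ∈ M) {k : ℕ} (hk : k < 120) :
    ∃ l < 120, x * Rf k * x⁻¹ = Rf l ∧ ((x : Matrix (Fin 8) (Fin 8) (ZMod 3)).mulVec (rvv k) = rvv l ∨
      (x : Matrix (Fin 8) (Fin 8) (ZMod 3)).mulVec (rvv k) = -rvv l) := by
  obtain ⟨l, hl, e⟩ := (mem_M_props hx).2 k hk
  exact ⟨l, hl, conj_Rf hx hk hl e, e⟩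

/-- The line reached along a word. -/
def runW (w : List ℕ) (k : ℕ) : ℕ := w.foldr permOf k

theorem word_props : ∀ w : List ℕ, (∀ r ∈ w, r < 24) → ∀ k < 120,
    (w.map gen).prod ∈ M ∧ runW w k < 120 ∧
      (w.map gen).prod * Rf k * ((w.map gen).prod)⁻¹ = Rf (runW w k) := by
  intro w
  induction w with
  | nil => intro _ k hk; exact ⟨by simp, hk, by simp [runW]⟩
  | cons r w ih =>
    intro hw k hk
    have hr : r < 24 := hw r List.mem_cons_self
    obtain ⟨hm, hl, e⟩ := ih (fun q hq => hw q (List.mem_cons_of_mem _ hq)) k hk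
    obtain ⟨hlt, -, e'⟩ := gen_perm hr hl
    refine ⟨by rw [List.map_cons, List.prod_cons]; exact mul_mem (gen_mem hr) hm, hlt, ?_⟩
    rw [List.map_cons, List.prod_cons, show runW (r :: w) k = permOf r (runW w k) from rfl,
      ← conj_Rf (gen_mem hr) hl hlt (by rw [gen_val hr]; exact e'), ← e]
    group

/-- Two rows differ modulo three. -/
def vdiff (u v : List ℕ) : Bool :=
  (List.range 8).any fun i => u.getD i 0 % 3 != v.getD i 0 % 3

/-- Two matrices differ modulo three. -/
def rdiff (A B : List (List ℕ)) : Bool :=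
  (List.range 8).any fun i => vdiff (A.getD i []) (B.getD i [])

theorem vec_ne_of_vdiff {u v : List ℕ} (h : vdiff u v = true) : vec u ≠ vec v := by
  simp only [vdiff, List.any_eq_true, List.mem_range, bne_iff_ne] at h
  obtain ⟨i, hi, hne⟩ := h
  exact fun e => hne ((ZMod.natCast_eq_natCast_iff' _ _ _).1 (congrFun e ⟨i, hi⟩))

theorem toM_ne_of_rdiff {A B : List (List ℕ)} (h : rdiff A B = true) : toM A ≠ toM B := by
  simp only [rdiff, List.any_eq_true, List.mem_range] at h
  obtain ⟨i, hi, hne⟩ := h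
  exact fun e => vec_ne_of_vdiff hne (congrFun e ⟨i, hi⟩)

/-- Representatives are distinct up to sign. -/
def lineOK : Bool :=
  (List.range 120).all fun k => (List.range 120).all fun l =>
    (k == l) || (vdiff (root k) (root l) && vdiff (root k) (rsmul 2 (root l)))

theorem lineCert : lineOK = true := by decide +kernel

theorem line_inj {k l : ℕ} (hk : k < 120) (hl : l < 120) (h : rvv k = rvv l ∨ rvv k = -rvv l) :
    k = l := by
  have hc := lineCert
  simp only [lineOK, List.all_eq_true, List.mem_range, Bool.or_eq_true, beq_iff_eq,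
    Bool.and_eq_true] at hc
  by_contra hne
  obtain ⟨h1, h2⟩ := (hc k hk l hl).resolve_left hne
  rcases h with e | e
  · exact vec_ne_of_vdiff h1 e
  · refine vec_ne_of_vdiff h2 ?_
    rw [vec_rsmul, show ((2 : ℕ) : ZMod 3) = -1 from by decide, neg_one_smul]
    exact e

/-- The first line of the frame. -/
def base : ℕ := frameIdx.getD 0 0

/-- Every line moves to the first one; only one reflection is that of the first line, and those
commuting with it are orthogonal. -/
def baseOK : Bool :=
  decide (base < 120) && (List.range 120).all fun k =>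
    (wordOne.getD k []).all (fun r => decide (r < 24)) && (runW (wordOne.getD k []) k == base) &&
      ((k == base) || (rdiff (refRows (root k)) (refRows (root base)) &&
        ((adj base k) ||
          rdiff (rmul (refRows (root base)) (refRows (root k)))
            (rmul (refRows (root k)) (refRows (root base))))))

theorem baseCert : baseOK = true := by decide +kernel

/-- The masks contain exactly the orthogonal lines. -/
def maskOK : Bool :=
  (List.range 120).all fun k => (List.range 120).all fun l => adj k l == (rdot (root k) (root l) == 0)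

theorem maskCert : maskOK = true := by decide +kernel

theorem adj_iff {k l : ℕ} (hk : k < 120) (hl : l < 120) :
    adj k l = true ↔ dotProduct (rvv k) (rvv l) = 0 := by
  have h := maskCert
  simp only [maskOK, List.all_eq_true, List.mem_range, beq_iff_eq] at h
  have e := h k hk l hl
  rw [rvv, rvv, dot_vec, e, beq_iff_eq]
  refine ⟨fun h => by rw [h, Nat.cast_zero], fun h => ?_⟩
  rw [ZMod.natCast_eq_zero_iff] at h
  · exact Nat.eq_zero_of_dvd_of_lt h (Nat.mod_lt _ (by norm_num))

/-- Distinct lines have distinct reflections, and commuting ones are orthogonal. -/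
theorem Rf_inj_comm {k l : ℕ} (hk : k < 120) (hl : l < 120) :
    (Rf k = Rf l → k = l) ∧ (Rf k * Rf l = Rf l * Rf k → k = l ∨ adj k l = true) := by
  have h := baseCert
  simp only [baseOK, Bool.and_eq_true, decide_eq_true_eq, List.all_eq_true, List.mem_range,
    Bool.or_eq_true, beq_iff_eq] at h
  obtain ⟨hb, h⟩ := h
  obtain ⟨⟨hwlt, hrun⟩, -⟩ := h k hk
  obtain ⟨hm, -, ek⟩ := word_props _ hwlt k hk
  rw [hrun] at ek
  set x := ((wordOne.getD k []).map gen).prod
  obtain ⟨l', hl', el, evl⟩ := exists_conj_Rf hm hl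
  obtain ⟨k', hk', ek', evk⟩ := exists_conj_Rf hm hk
  obtain ⟨-, hsep⟩ := h l' hl'
  have hkb : k' = base := by
    by_contra hne
    obtain ⟨-, hsep'⟩ := h k' hk'
    refine toM_ne_of_rdiff (hsep'.resolve_left hne).1 ?_
    rw [← Rf_val hk', ← Rf_val hb, ← ek', ek]
  subst hkb
  have hback : l' = base → k = l := by
    intro e
    subst e
    have hv : (x : Matrix (Fin 8) (Fin 8) (ZMod 3)).mulVec (rvv k) = (x : Matrix _ _ (ZMod 3)).mulVec (rvv l) ∨
        (x : Matrix (Fin 8) (Fin 8) (ZMod 3)).mulVec (rvv k) = -(x : Matrix _ _ (ZMod 3)).mulVec (rvv l) := by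
      rcases evl with e | e <;> rcases evk with e' | e' <;> simp [e, e']
    exact line_inj hk hl (by
      have hi : Function.Injective ((x : Matrix (Fin 8) (Fin 8) (ZMod 3)).mulVec) :=
        Matrix.mulVec_injective_of_isUnit x.isUnit
      rcases hv with e | e
      · exact Or.inl (hi e)
      · exact Or.inr (hi (by rw [e, Matrix.mulVec_neg])))
  refine ⟨fun e => hback ?_, fun e => ?_⟩
  · by_contra hne
    refine toM_ne_of_rdiff (hsep.resolve_left hne).1 ?_
    rw [← Rf_val hl', ← Rf_val hb, ← el, ← ek', e]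
  · by_cases hne : l' = base
    · exact Or.inl (hback hne)
    rcases (hsep.resolve_left hne).2 with ha | hc
    · right
      rw [adj_iff hk hl, ← dot_map hm]
      rw [adj_iff hb hl'] at ha
      rcases evl with e | e <;> rcases evk with e' | e' <;> simp [e, e', ha]
    · exfalso
      have e2 : Rf base * Rf l' = Rf l' * Rf base := by
        rw [← el, ← ek', show x * Rf k * x⁻¹ * (x * Rf l * x⁻¹) = x * (Rf k * Rf l) * x⁻¹ by group, e]
        group
      have e3 := congrArg Units.val e2
      rw [Units.val_mul, Units.val_mul, Rf_val hb, Rf_val hl', ← toM_rmul, ← toM_rmul] at e3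
      exact toM_ne_of_rdiff hc e3

end H20.O8Cover
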